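import Groth.Agent.StDescent.Gerbe
import Groth.Prelude.Def_TwSh

/-!
# Untwisted modules on a banded gerbe (helper34)
-/

set_option autoImplicit false
set_option backward.isDefEq.respectTransparency false
set_option backward.isDefEq.respectTransparency.types false

universe v v' w' w u

open CategoryTheory CategoryTheory.Limits AlgebraicGeometry Opposite TopologicalSpace

noncomputable section

namespace Groth.StDescent

open Groth.QCohMod (res res_res res_self res_app res_smul)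
open Groth.StkBase

variable {S : Scheme.{u}} {𝒴 : BasedCategory.{v', w'} (Over S)} {E : Type w} [Category.{v} E] {π : E ⥤ 𝒴.obj}
  {A : (Over S)ᵒᵖ ⥤ GrpCat.{u}} (ι : TwSh.BandHom (Src π) A) (hE : FibCat.IsFibGrpd (π ⋙ 𝒴.p))
  (hY : FibCat.IsFibGrpd 𝒴.p)

/-- An endomorphism over the identity, as an automorphism. -/
def autOfEndo {x : E} (α : x ⟶ x) (h : (π ⋙ 𝒴.p).map α = 𝟙 _) : Gerb.AutO (𝒳 := Src π) x :=
  have : IsIso α := isIso_of_isIso_map hE α (by rw [h]; infer_instance)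
  { hom := ⟨α, IsHomLift.of_fac' (Src π).p _ _ rfl rfl (by
      simp only [eqToHom_refl, Category.comp_id]
      exact h)⟩
    inv := ⟨inv α, IsHomLift.of_fac' (Src π).p _ _ rfl rfl (by
      simp only [eqToHom_refl, Category.comp_id]
      refine ((π ⋙ 𝒴.p).map_inv α).trans ?_
      simp only [h]
      exact IsIso.inv_id)⟩
    hom_inv_id := Functor.Fiber.hom_ext (IsIso.hom_inv_id α)
    inv_hom_id := Functor.Fiber.hom_ext (IsIso.inv_hom_id α) }

include hE hY in
/-- Two morphisms with one image differ by the band. -/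
theorem exists_band_of_map_eq
    (hk : ∀ ξ : (Src π).obj, (ι.hom ξ).range = (Gerb.autMap (toBase π) ξ).ker) {x z : E} (ψ ψ' : x ⟶ z)
    (h : π.map ψ = π.map ψ') : ∃ a, (ι.hom x a).hom.1 ≫ ψ' = ψ := by
  obtain ⟨α, ⟨hα, hαψ⟩, -⟩ := factor_unique hE ψ' ψ (𝟙 _) (by
    rw [Category.id_comp]; exact congrArg 𝒴.p.map h.symm)
  have hπ : π.map α = 𝟙 _ := by
    refine (lifts_of_isFibGrpd hY).ext (π.map ψ') ?_ ?_
    · rw [← π.map_comp, hαψ, h, Category.id_comp]
    · rw [StMod.bmap_id]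
      exact congrArg Over.Hom.left hα
  have hker : autOfEndo hE α hα ∈ (Gerb.autMap (toBase π) x).ker := by
    rw [MonoidHom.mem_ker]
    apply Aut.ext; apply Functor.Fiber.hom_ext
    exact hπ
  rw [← hk x] at hker
  obtain ⟨a, ha⟩ := hker
  exact ⟨a, by rw [show (ι.hom x a).hom.1 = α from congrArg (fun β => β.hom.1) ha]; exact hαψ⟩

/-- The band acts by its character on sections. -/
theorem mp_band {F : StMod.Mod (Src π)} {χ : A ⟶ TwSh.GmPsh S} {d : ℤ} (hF : TwSh.IsTwisted F ι χ d) {x : E}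
    (a : A.obj (op ((π ⋙ 𝒴.p).obj x))) {U V : (StMod.sch (Src π) x).Opens}
    (h : V ≤ StMod.bmap (Src π) (ι.hom x a).hom.1 ⁻¹ᵁ U) (h' : V ≤ U) (s : Γ(F.obj x, U)) :
    mp F (ι.hom x a).hom.1 h s =
      TwSh.resTop _ V ((TwSh.charUnit (𝒳 := Src π) χ x a ^ d)⁻¹).val • res (F.obj x) h' s := by
  refine (mp_eq F (ξ := x) (ξ' := x) (ι.hom x a).hom.1 (g := 𝟙 (StMod.sch (Src π) x))
    (TwSh.bmap_autO (𝒳 := Src π) x (ι.hom x a)) h h' s).trans ?_
  refine (congrArg (res (F.obj x) h') ((TwSh.inert_app_apply F x (ι.hom x a) U s).symm.trans (hF x a U s))).trans ?_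
  refine (res_smul (F.obj x) h' _ _).trans (congrArg (fun y => y • _) ?_)
  show ((StMod.sch (Src π) x).presheaf.map _ ≫ (StMod.sch (Src π) x).presheaf.map _) _ = _
  rw [← Functor.map_comp]
  rfl

include hE hY in
/-- Restriction in an untwisted module only depends on the image. -/
theorem indep_of_isTwisted_zero
    (hk : ∀ ξ : (Src π).obj, (ι.hom ξ).range = (Gerb.autMap (toBase π) ξ).ker) (χ : A ⟶ TwSh.GmPsh S)
    {F : StMod.Mod (Src π)} (hF : TwSh.IsTwisted F ι χ 0) : Indep F := by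
  intro x z ψ ψ' hψ U V h h' s
  obtain ⟨a, ha⟩ := exists_band_of_map_eq ι hE hY hk ψ ψ' hψ
  have h₂ : V ≤ StMod.bmap (Src π) (ι.hom x a).hom.1 ⁻¹ᵁ V := by rw [TwSh.bmap_autO]; exact le_rfl
  refine (mp_congr F ha.symm h (le_preimage_comp _ _ h' h₂) s).trans ?_
  rw [← mp_mp F _ ψ' h' h₂, mp_band ι hF a h₂ le_rfl, zpow_zero, inv_one, Units.val_one, map_one, one_smul,
    res_self]

end Groth.StDescent
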