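import Groth.Agent.StDescent.GerbeTw
import Groth.Agent.TwLocal.Local

/-!
# Twisted modules on a gerbe with a section (helper34)

`σ : E ⥤ 𝒳.obj` is the section, `Src σ` the base read through it.
-/

set_option autoImplicit false
set_option backward.isDefEq.respectTransparency false
set_option backward.isDefEq.respectTransparency.types false

universe v v' w' w u

open CategoryTheory CategoryTheory.Limits AlgebraicGeometry Opposite TopologicalSpace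

noncomputable section

namespace Groth.StDescent

open Groth.QCohMod (res res_res res_self res_app res_smul)
open Groth.StkBase

variable {S : Scheme.{u}}

section Band

variable {𝒳 : BasedCategory.{v, w} (Over S)} {𝒵 : BasedCategory.{v', w'} (Over S)} (π : 𝒳 ⥤ᵇ 𝒵)
  {A : (Over S)ᵒᵖ ⥤ GrpCat.{u}} (ι : TwSh.BandHom 𝒳 A) (hX : FibCat.IsFibGrpd 𝒳.p) (hZ : Lifts 𝒵)

include hX hZ in
/-- Two morphisms with one image differ by the band. -/
theorem exists_band (hk : ∀ ξ : 𝒳.obj, (ι.hom ξ).range = (Gerb.autMap π ξ).ker) {x z : 𝒳.obj} (ψ ψ' : x ⟶ z)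
    (h : π.map ψ = π.map ψ') : ∃ a, (ι.hom x a).hom.1 ≫ ψ' = ψ := by
  have hp : 𝒳.p.map ψ = 𝒳.p.map ψ' := by
    have e : ∀ φ : x ⟶ z, 𝒳.p.map φ =
        eqToHom (π.w_obj x).symm ≫ 𝒵.p.map (π.map φ) ≫ eqToHom (π.w_obj z) := fun φ => by
      have := Functor.congr_hom π.w φ
      simp only [Functor.comp_map] at this
      simp [this]
    rw [e, e, h]
  obtain ⟨α, ⟨hα, hαψ⟩, -⟩ := factor_unique hX ψ' ψ (𝟙 _) (by rw [Category.id_comp, hp])
  have : IsIso α := isIso_of_isIso_map hX α (by rw [hα]; infer_instance)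
  let β : Gerb.AutO x :=
    { hom := ⟨α, IsHomLift.of_fac' 𝒳.p _ _ rfl rfl (by simp only [eqToHom_refl, Category.comp_id]; exact hα)⟩
      inv := ⟨inv α, IsHomLift.of_fac' 𝒳.p _ _ rfl rfl (by
        simp only [eqToHom_refl, Category.comp_id]
        refine (𝒳.p.map_inv α).trans ?_
        simp only [hα]
        exact IsIso.inv_id)⟩
      hom_inv_id := Functor.Fiber.hom_ext (IsIso.hom_inv_id α)
      inv_hom_id := Functor.Fiber.hom_ext (IsIso.inv_hom_id α) }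
  have hπ : π.map α = 𝟙 _ := by
    refine hZ.ext (π.map ψ') ?_ ?_
    · rw [← π.toFunctor.map_comp, hαψ, h, Category.id_comp]
    · have e := StMod.bmap_map_comm π α (g := 𝟙 _) (congrArg Over.Hom.left hα)
      rw [Category.comp_id] at e
      rw [StMod.bmap_id, ← cancel_mono (eqToHom (StMod.sch_obj_eq π x)), Category.id_comp]
      exact e
  have hker : β ∈ (Gerb.autMap π x).ker := by
    rw [MonoidHom.mem_ker]
    apply Aut.ext; apply Functor.Fiber.hom_ext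
    exact hπ
  rw [← hk x] at hker
  obtain ⟨a, ha⟩ := hker
  exact ⟨a, by rw [show (ι.hom x a).hom.1 = α from congrArg (fun β => β.hom.1) ha]; exact hαψ⟩

end Band

section Section

variable {𝒳 : AlgSt.Cat S} {E : Type w} [Category.{v} E] {σ : E ⥤ 𝒳.obj}

/-- The data of a banded gerbe over `Src σ` with the section `σ`. -/
structure SecData (σ : E ⥤ 𝒳.obj) (A : (Over S)ᵒᵖ ⥤ GrpCat.{u}) where
  π : 𝒳 ⥤ᵇ Src σ
  ι : TwSh.BandHom 𝒳 A
  hπ : TwSh.IsBandedGerbe (QuotSh.J Scheme.fppfPrecoverage S) π ι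
  hE : FibCat.IsFibGrpd (σ ⋙ 𝒳.p)
  hX : FibCat.IsFibGrpd 𝒳.p
  e : BasedFunctor.comp (toBase σ) π ≅ BasedFunctor.id (Src σ)

variable {A : (Over S)ᵒᵖ ⥤ GrpCat.{u}} (D : SecData σ A)

/-- The section followed by the projection is the identity. -/
def SecData.nat : σ ⋙ D.π.toFunctor ≅ 𝟭 E := (BasedNatTrans.forgetful _ _).mapIso D.e

theorem SecData.isDense (D : SecData σ A) : IsDense (𝒳 := 𝒳) σ.obj where
  cover ξ := by
    have hb : (Src σ).p.IsHomLift (𝟙 (𝒳.p.obj ξ)) (D.nat.inv.app (D.π.obj ξ)) :=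
      BasedNatTrans.isHomLift D.e.inv (D.π.w_obj ξ)
    obtain ⟨R, hR, hh⟩ := D.hπ.1.2 ξ (σ.obj (D.π.obj ξ)) (D.nat.inv.app (D.π.obj ξ)) hb
    obtain ⟨κ, V, f, hf, hcov⟩ := exists_small_cover hR
    choose x φ ψ hφ hψ hfac using fun k => hh (f k) (hf k)
    have hl : ∀ k, ∃ (y : E) (χ : σ.obj y ⟶ x k) (e : StMod.sch 𝒳 (σ.obj y) ≅ (V k).left),
        StMod.bmap 𝒳 (χ ≫ φ k) = e.hom ≫ (f k).left := by
      intro k
      obtain ⟨y, l, h, hl⟩ := exists_lift' D.hE (x := D.π.obj ξ) (V := V k) (f k ≫ eqToHom (D.π.w_obj ξ).symm)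
      have h1 := IsHomLift.domain_eq 𝒳.p (f k) (ψ k)
      have h2 := IsHomLift.fac' 𝒳.p (f k) (ψ k)
      have h3 := IsHomLift.fac' 𝒳.p (f k) (φ k)
      have hl' : 𝒳.p.map (σ.map l) = eqToHom h ≫ f k ≫ eqToHom (D.π.w_obj ξ).symm := hl
      obtain ⟨χ, ⟨hχ, -⟩, -⟩ := factor_unique D.hX (ψ k) (σ.map l) (z := σ.obj y)
        ((eqToHom h : 𝒳.p.obj (σ.obj y) ⟶ V k) ≫ eqToHom h1.symm) (by rw [h2, hl']; simp)
      refine ⟨y, χ, eqToIso (congrArg Comma.left h), ?_⟩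
      show (𝒳.p.map (χ ≫ φ k)).left = _
      rw [Functor.map_comp, hχ, h3]
      simp [Over.comp_left, Over.eqToHom_left, Over.eqToHom_left h]
    choose y χ e he using hl
    exact ⟨κ, y, fun k => χ k ≫ φ k, mem_fpqc_of_iso hcov e _ he⟩
  lift z _ g := by
    obtain ⟨w, ψ, e, h⟩ := (lifts_of_isFibGrpd (𝒳 := Src σ) D.hE).lift z g
    exact ⟨w, σ.map ψ, e, h⟩

variable {z'' z' z : E}

/-- The morphism of the base under a morphism between values of the section. -/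
def SecData.baseHom (b : σ.obj z' ⟶ σ.obj z) : z' ⟶ z :=
  D.nat.inv.app z' ≫ D.π.map b ≫ D.nat.hom.app z

theorem SecData.nat_naturality (β : z' ⟶ z) :
    D.π.map (σ.map β) ≫ D.nat.hom.app z = D.nat.hom.app z' ≫ β :=
  D.nat.hom.naturality β

theorem SecData.baseHom_eq {b : σ.obj z' ⟶ σ.obj z} {β : z' ⟶ z} {a : A.obj (op (𝒳.p.obj (σ.obj z')))}
    (h : (D.ι.hom (σ.obj z') a).hom.1 ≫ σ.map β = b) : D.baseHom b = β := by
  subst h
  have e : D.π.map ((D.ι.hom (σ.obj z') a).hom.1 ≫ σ.map β) = D.π.map (σ.map β) := by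
    rw [D.π.toFunctor.map_comp]
    exact (congrArg (· ≫ _) (TwSh.IsBandedGerbe.map_hom_eq_id D.π D.hπ _ a)).trans (Category.id_comp _)
  show D.nat.inv.app z' ≫ D.π.map _ ≫ _ = β
  rw [e, D.nat_naturality β]
  exact D.nat.inv_hom_id_app_assoc z' β

theorem SecData.exists_dec (b : σ.obj z' ⟶ σ.obj z) :
    ∃ a, (D.ι.hom (σ.obj z') a).hom.1 ≫ σ.map (D.baseHom b) = b := by
  refine exists_band D.π D.ι D.hX (lifts_of_isFibGrpd (𝒳 := Src σ) D.hE) (fun ξ => (D.hπ.2 ξ).2) b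
    (σ.map (D.baseHom b)) ?_
  rw [← cancel_mono (D.nat.hom.app z)]
  refine Eq.trans ?_ (D.nat_naturality _).symm
  exact (D.nat.hom_inv_id_app_assoc z' (D.π.map b ≫ D.nat.hom.app z)).symm

/-- The band element of a morphism between values of the section. -/
def SecData.bandPart (b : σ.obj z' ⟶ σ.obj z) : A.obj (op (𝒳.p.obj (σ.obj z'))) := (D.exists_dec b).choose

theorem SecData.dec (b : σ.obj z' ⟶ σ.obj z) :
    (D.ι.hom (σ.obj z') (D.bandPart b)).hom.1 ≫ σ.map (D.baseHom b) = b := (D.exists_dec b).choose_spec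

theorem SecData.band_cancel {x z₀ : 𝒳.obj} {a a' : A.obj (op (𝒳.p.obj x))} (ψ : x ⟶ z₀)
    (h : (D.ι.hom x a).hom.1 ≫ ψ = (D.ι.hom x a').hom.1 ≫ ψ) : a = a' := by
  refine (D.hπ.2 x).1 (Aut.ext (Functor.Fiber.hom_ext ?_))
  exact (lifts_of_isFibGrpd D.hX).ext ψ h ((TwSh.bmap_autO x _).trans (TwSh.bmap_autO x _).symm)

theorem SecData.bandPart_eq {b : σ.obj z' ⟶ σ.obj z} {β : z' ⟶ z} {a : A.obj (op (𝒳.p.obj (σ.obj z')))}
    (h : (D.ι.hom (σ.obj z') a).hom.1 ≫ σ.map β = b) : D.bandPart b = a := by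
  refine D.band_cancel (σ.map β) ?_
  conv_lhs => rw [← D.baseHom_eq h]
  rw [D.dec b, h]

theorem band_hom_comp {x : 𝒳.obj} (a a' : A.obj (op (𝒳.p.obj x))) :
    (D.ι.hom x a).hom.1 ≫ (D.ι.hom x a').hom.1 = (D.ι.hom x (a' * a)).hom.1 := by
  rw [map_mul]; rfl

theorem SecData.dec_comp (b' : σ.obj z'' ⟶ σ.obj z') (b : σ.obj z' ⟶ σ.obj z) :
    (D.ι.hom (σ.obj z'') (A.map (𝒳.p.map (σ.map (D.baseHom b'))).op (D.bandPart b) * D.bandPart b')).hom.1 ≫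
      σ.map (D.baseHom b' ≫ D.baseHom b) = b' ≫ b := by
  rw [← band_hom_comp, σ.map_comp, Category.assoc, reassoc_of% (D.ι.natural (σ.map (D.baseHom b')) (D.bandPart b)),
    D.dec b, ← Category.assoc, D.dec b']

theorem SecData.dec_id (z : E) : (D.ι.hom (σ.obj z) 1).hom.1 ≫ σ.map (𝟙 z) = 𝟙 (σ.obj z) := by
  rw [map_one, σ.map_id]
  exact Category.comp_id _

theorem SecData.bmap_baseHom (b : σ.obj z' ⟶ σ.obj z) :
    StMod.bmap (Src σ) (D.baseHom b) = StMod.bmap 𝒳 b := by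
  conv_rhs => rw [← D.dec b, StMod.bmap_comp, TwSh.bmap_autO, Category.id_comp]
  rfl

variable (χ : A ⟶ TwSh.GmPsh S)

/-- The scalar of a morphism between values of the section. -/
def SecData.coef (b : σ.obj z' ⟶ σ.obj z) : Γ(StMod.sch (Src σ) z', ⊤) :=
  ((TwSh.charUnit (𝒳 := 𝒳) χ (σ.obj z') (D.bandPart b) ^ (1 : ℤ))⁻¹).val

theorem charUnit_mul {x : 𝒳.obj} (a a' : A.obj (op (𝒳.p.obj x))) :
    ((TwSh.charUnit (𝒳 := 𝒳) χ x (a * a') ^ (1 : ℤ))⁻¹).val =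
      ((TwSh.charUnit (𝒳 := 𝒳) χ x a ^ (1 : ℤ))⁻¹).val * ((TwSh.charUnit (𝒳 := 𝒳) χ x a' ^ (1 : ℤ))⁻¹).val := by
  have h : TwSh.charUnit (𝒳 := 𝒳) χ x (a * a') = TwSh.charUnit (𝒳 := 𝒳) χ x a * TwSh.charUnit (𝒳 := 𝒳) χ x a' :=
    map_mul (χ.app _).hom a a'
  rw [zpow_one, zpow_one, zpow_one, h, mul_inv, Units.val_mul]

theorem SecData.coef_comp (b' : σ.obj z'' ⟶ σ.obj z') (b : σ.obj z' ⟶ σ.obj z) :
    D.coef χ (b' ≫ b) = (StMod.bmap (Src σ) (D.baseHom b')).appTop (D.coef χ b) * D.coef χ b' := by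
  show ((TwSh.charUnit (𝒳 := 𝒳) χ _ (D.bandPart (b' ≫ b)) ^ (1 : ℤ))⁻¹).val = _
  rw [D.bandPart_eq (D.dec_comp b' b), charUnit_mul,
    Groth.TwLocal.charUnit_map χ (σ.map (D.baseHom b')) (D.bandPart b) 1]
  rfl

theorem SecData.coef_id (z : E) : D.coef χ (𝟙 (σ.obj z)) = 1 := by
  have h : TwSh.charUnit (𝒳 := 𝒳) χ (σ.obj z) 1 = 1 := map_one (χ.app _).hom
  show ((TwSh.charUnit (𝒳 := 𝒳) χ _ (D.bandPart _) ^ (1 : ℤ))⁻¹).val = _
  rw [D.bandPart_eq (D.dec_id z), h, one_zpow, inv_one, Units.val_one]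

variable {χ}

theorem map_smul_comp (G : StMod.Mod (Src σ)) (β : z'' ⟶ z') (α : z' ⟶ z)
    {h : StMod.sch (Src σ) z'' ⟶ StMod.sch (Src σ) z'} {g : StMod.sch (Src σ) z' ⟶ StMod.sch (Src σ) z}
    (hh : StMod.bmap (Src σ) β = h) (hg : StMod.bmap (Src σ) α = g) {γ : z'' ⟶ z} (hγ : γ = β ≫ α)
    (hc : StMod.bmap (Src σ) γ = h ≫ g)
    (r : Γ(StMod.sch (Src σ) z', ⊤)) (r' r'' : Γ(StMod.sch (Src σ) z'', ⊤)) (hr : r'' = h.appTop r * r')
    (U : (StMod.sch (Src σ) z).Opens) (s : Γ(G.obj z, U)) :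
    TwSh.resTop _ ((h ≫ g) ⁻¹ᵁ U) r'' • (show Γ(G.obj z'', (h ≫ g) ⁻¹ᵁ U) from (G.map γ hc).app U s) =
      TwSh.resTop _ (h ⁻¹ᵁ g ⁻¹ᵁ U) r' • (show Γ(G.obj z'', h ⁻¹ᵁ g ⁻¹ᵁ U) from
        (G.map β hh).app (g ⁻¹ᵁ U)
          (TwSh.resTop _ (g ⁻¹ᵁ U) r • (show Γ(G.obj z', g ⁻¹ᵁ U) from (G.map α hg).app U s))) := by
  subst hγ
  refine Eq.trans ?_
    (congrArg (fun y : Γ(G.obj z'', h ⁻¹ᵁ g ⁻¹ᵁ U) => TwSh.resTop _ (h ⁻¹ᵁ g ⁻¹ᵁ U) r' • y)
      (Scheme.Modules.Hom.app_smul (G.map β hh) _ _)).symm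
  refine Eq.trans ?_ (smul_smul (TwSh.resTop _ (h ⁻¹ᵁ g ⁻¹ᵁ U) r') (h.app (g ⁻¹ᵁ U) (TwSh.resTop _ (g ⁻¹ᵁ U) r))
    (show Γ(G.obj z'', h ⁻¹ᵁ g ⁻¹ᵁ U) from (G.map β hh).app (g ⁻¹ᵁ U) ((G.map α hg).app U s))).symm
  refine congrArg₂ (fun x y => x • y) ?_ congr($(G.map_comp_app β α hh hg U) s)
  rw [hr, map_mul, mul_comm]
  refine congrArg (_ * ·) ?_
  exact congr(($(h.naturality (homOfLE (le_top : g ⁻¹ᵁ U ≤ ⊤)).op)) r).symm

/-- A module on the base, spread over the morphisms between values of the section by the character. -/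
def SecData.twMod (χ : A ⟶ TwSh.GmPsh S) (G : StMod.Mod (Src σ)) : StMod.Mod (Ind (𝒳 := 𝒳) σ.obj) where
  obj z := G.obj z
  map {z' z} b g hb := G.map (D.baseHom b.hom) (g := g) ((D.bmap_baseHom b.hom).trans hb) ≫
    (Scheme.Modules.pushforward g).map (TwSh.scalarEnd (G.obj z') (D.coef χ b.hom))
  map_id z := by
    ext U s
    show TwSh.resTop _ U (D.coef χ (𝟙 (σ.obj z))) • (show Γ(G.obj z, U) from
      (G.map (D.baseHom (𝟙 (σ.obj z))) (g := 𝟙 _) ((D.bmap_baseHom _).trans (StMod.bmap_id (σ.obj z)))).app U s) = s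
    rw [D.coef_id χ z, map_one, one_smul]
    have h := G.map_id_app z U
    rw [G.map_congr (D.baseHom_eq (D.dec_id z))]
    exact congr($h s)
  map_comp {z₂ z₁ z₀} β α {h g} hh hg := by
    ext U s
    exact map_smul_comp G (D.baseHom β.hom) (D.baseHom α.hom) ((D.bmap_baseHom _).trans hh)
      ((D.bmap_baseHom _).trans hg) (D.baseHom_eq (D.dec_comp β.hom α.hom))
      ((D.bmap_baseHom _).trans ((StMod.bmap_comp (𝒳 := 𝒳) β.hom α.hom).trans (congrArg₂ (· ≫ ·) hh hg)))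
      (D.coef χ α.hom) (D.coef χ β.hom) _
      (by rw [← (D.bmap_baseHom β.hom).trans hh]; exact D.coef_comp χ β.hom α.hom) U s

theorem SecData.twMod_isCartesian (χ : A ⟶ TwSh.GmPsh S) {G : StMod.Mod (Src σ)} (hG : G.IsCartesian) :
    (D.twMod χ G).IsCartesian := by
  intro z' z b g hb
  show IsIso (((Scheme.Modules.pullbackPushforwardAdjunction g).homEquiv _ _).symm
    (G.map (D.baseHom b.hom) (g := g) ((D.bmap_baseHom b.hom).trans hb) ≫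
      (Scheme.Modules.pushforward g).map (TwSh.scalarEnd (G.obj z') (D.coef χ b.hom))))
  rw [Adjunction.homEquiv_naturality_right_symm]
  have := hG (D.baseHom b.hom) ((D.bmap_baseHom b.hom).trans hb)
  have hu : IsIso (TwSh.scalarEnd (G.obj z') (D.coef χ b.hom)) := by
    let u : (Γ(StMod.sch (Src σ) z', ⊤))ˣ :=
      (TwSh.charUnit (𝒳 := 𝒳) χ (σ.obj z') (D.bandPart b.hom) ^ (1 : ℤ))⁻¹
    refine ⟨TwSh.scalarEnd _ (u⁻¹).val, ?_, ?_⟩ <;> ext U s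
    · show TwSh.resTop _ U (u⁻¹).val • TwSh.resTop _ U u.val • s = s
      rw [smul_smul, ← map_mul, u.inv_mul, map_one, one_smul]
    · show TwSh.resTop _ U u.val • TwSh.resTop _ U (u⁻¹).val • s = s
      rw [smul_smul, ← map_mul, u.mul_inv, map_one, one_smul]
  infer_instance

/-- The spread module restricts to the module. -/
def SecData.comapTwIso (χ : A ⟶ TwSh.GmPsh S) (G : StMod.Mod (Src σ)) :
    StMod.Mod.comap (toInd (π := σ)) (D.twMod χ G) ≅ G :=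
  StMod.Mod.isoMk (fun z => Iso.refl _) fun z' z φ g hgφ => by
    rw [comap_toInd_map (D.twMod χ G) φ hgφ]
    subst hgφ
    have hd : (D.ι.hom (σ.obj z') 1).hom.1 ≫ σ.map φ = σ.map φ := by
      rw [map_one]; exact Category.id_comp _
    have h1 : TwSh.charUnit (𝒳 := 𝒳) χ (σ.obj z') 1 = 1 := map_one (χ.app _).hom
    ext U s
    show TwSh.resTop _ (StMod.bmap (Src σ) φ ⁻¹ᵁ U) (D.coef χ (σ.map φ)) • (show Γ(G.obj z', StMod.bmap (Src σ) φ ⁻¹ᵁ U) from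
      (G.map (D.baseHom (σ.map φ)) (g := StMod.bmap (Src σ) φ) ((D.bmap_baseHom _).trans rfl)).app U s) =
      (show Γ(G.obj z', StMod.bmap (Src σ) φ ⁻¹ᵁ U) from (G.map φ rfl).app U s)
    rw [G.map_congr (D.baseHom_eq hd)]
    unfold SecData.coef
    rw [D.bandPart_eq hd, h1, one_zpow, inv_one, Units.val_one, map_one, one_smul]

theorem SecData.twMod_band (χ : A ⟶ TwSh.GmPsh S) (G : StMod.Mod (Src σ)) (z : E)
    (a : A.obj (op (𝒳.p.obj (σ.obj z)))) (U : (StMod.sch (Src σ) z).Opens) (s : Γ(G.obj z, U)) :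
    ((D.twMod χ G).map (hm (𝒳 := 𝒳) σ.obj (z := z) (z' := z) (D.ι.hom (σ.obj z) a).hom.1)
        (g := 𝟙 _) (TwSh.bmap_autO (σ.obj z) _)).app U s =
      TwSh.resTop _ U ((TwSh.charUnit (𝒳 := 𝒳) χ (σ.obj z) a ^ (1 : ℤ))⁻¹).val • s := by
  have hd : (D.ι.hom (σ.obj z) a).hom.1 ≫ σ.map (𝟙 z) = (D.ι.hom (σ.obj z) a).hom.1 := by
    rw [σ.map_id]; exact Category.comp_id _
  show TwSh.resTop _ U (D.coef χ (D.ι.hom (σ.obj z) a).hom.1) • (show Γ(G.obj z, U) from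
    (G.map (D.baseHom (D.ι.hom (σ.obj z) a).hom.1) (g := 𝟙 _)
      ((D.bmap_baseHom _).trans (TwSh.bmap_autO (σ.obj z) _))).app U s) = _
  rw [G.map_congr (D.baseHom_eq hd)]
  refine congrArg₂ (fun x y => x • y) ?_ congr($(G.map_id_app z U) s)
  show TwSh.resTop _ U ((TwSh.charUnit (𝒳 := 𝒳) χ _ (D.bandPart _) ^ (1 : ℤ))⁻¹).val = _
  rw [D.bandPart_eq hd]

theorem SecData.isTwisted_of_iso (χ : A ⟶ TwSh.GmPsh S) {G : StMod.Mod (Src σ)} {F : StMod.QCoh 𝒳}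
    (i : StMod.Mod.comap (ind (𝒳 := 𝒳) σ.obj) F.obj ≅ D.twMod χ G) : TwSh.IsTwisted F.obj D.ι χ 1 := by
  intro ξ a U s
  refine eq_of_members D.isDense F.property.1 fun z b => ?_
  rw [mp_self, mp_self, Groth.TwLocal.map_app_inert, Groth.TwLocal.map_app_resTop_smul,
    ← Groth.TwLocal.charUnit_map χ b a 1, TwSh.inert_app_apply]
  generalize A.map (𝒳.p.map b).op a = a'
  suffices key : ∀ (V : (StMod.sch 𝒳 (σ.obj z)).Opens) (y : Γ(F.obj.obj (σ.obj z), V)),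
      (show Γ(F.obj.obj (σ.obj z), V) from (F.obj.map (D.ι.hom (σ.obj z) a').hom.1 (g := 𝟙 _)
        (TwSh.bmap_autO (σ.obj z) _)).app V y) =
        TwSh.resTop _ V ((TwSh.charUnit (𝒳 := 𝒳) χ (σ.obj z) a' ^ (1 : ℤ))⁻¹).val • y from key _ _
  intro V y
  let j : F.obj.obj (σ.obj z) ⟶ G.obj z := i.hom.app z
  let j' : G.obj z ⟶ F.obj.obj (σ.obj z) := i.inv.app z
  have hj : ∀ y, j'.app V (j.app V y) = y := fun y => congr((($(i.hom_inv_id)).app z).app V y)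
  have e := congr(($(i.hom.comm (hm (𝒳 := 𝒳) σ.obj (z := z) (z' := z) (D.ι.hom (σ.obj z) a').hom.1)
    (g := 𝟙 _) (TwSh.bmap_autO (σ.obj z) _))).app V y)
  simp only [Scheme.Modules.Hom.comp_app, CategoryTheory.comp_apply, comap_ind_map] at e
  have e' : j.app V ((F.obj.map (D.ι.hom (σ.obj z) a').hom.1 (g := 𝟙 _) (TwSh.bmap_autO (σ.obj z) _)).app V y) =
      TwSh.resTop _ V ((TwSh.charUnit (𝒳 := 𝒳) χ (σ.obj z) a' ^ (1 : ℤ))⁻¹).val • j.app V y :=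
    e.trans (D.twMod_band χ G z a' V (j.app V y))
  rw [← Scheme.Modules.Hom.app_smul] at e'
  exact (hj _).symm.trans ((congrArg (j'.app V) e').trans (hj _))

theorem SecData.mp_section {F : StMod.Mod 𝒳} {χ : A ⟶ TwSh.GmPsh S} (hF : TwSh.IsTwisted F D.ι χ 1)
    (b : σ.obj z' ⟶ σ.obj z) {U : (StMod.sch 𝒳 (σ.obj z)).Opens}
    (h : StMod.bmap 𝒳 b ⁻¹ᵁ U ≤ StMod.bmap 𝒳 (σ.map (D.baseHom b)) ⁻¹ᵁ U) (s : Γ(F.obj (σ.obj z), U)) :
    mp F b le_rfl s = TwSh.resTop _ (StMod.bmap 𝒳 b ⁻¹ᵁ U) (D.coef χ b) • mp F (σ.map (D.baseHom b)) h s := by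
  let x := σ.obj z'
  let a := D.bandPart b
  have h₂ : StMod.bmap 𝒳 b ⁻¹ᵁ U ≤ StMod.bmap 𝒳 (D.ι.hom x a).hom.1 ⁻¹ᵁ (StMod.bmap 𝒳 b ⁻¹ᵁ U) := by
    rw [TwSh.bmap_autO]; exact le_rfl
  refine (mp_congr F (D.dec b).symm le_rfl (le_preimage_comp _ _ h h₂) s).trans ?_
  rw [← mp_mp F _ (σ.map (D.baseHom b)) h h₂]
  generalize mp F (σ.map (D.baseHom b)) h s = y
  refine (mp_eq F (ξ := x) (ξ' := x) (D.ι.hom x a).hom.1 (g := 𝟙 (StMod.sch 𝒳 x))
    (TwSh.bmap_autO (𝒳 := 𝒳) x (D.ι.hom x a)) h₂ le_rfl y).trans ?_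
  exact (res_self _ _).trans ((TwSh.inert_app_apply F x (D.ι.hom x a) _ y).symm.trans (hF x a _ y))

include D in
theorem SecData.exists_twHom {F F' : StMod.Mod 𝒳} {χ : A ⟶ TwSh.GmPsh S} (hF : TwSh.IsTwisted F D.ι χ 1)
    (hF' : TwSh.IsTwisted F' D.ι χ 1)
    (u : StMod.Mod.comap (toBase σ) F ⟶ StMod.Mod.comap (toBase σ) F') :
    ∃ v : StMod.Mod.comap (ind (𝒳 := 𝒳) σ.obj) F ⟶ StMod.Mod.comap (ind (𝒳 := 𝒳) σ.obj) F',
      ∀ z, v.app z = u.app z := by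
  refine ⟨⟨fun z => u.app z, fun {z' z} b g hb => ?_⟩, fun z => rfl⟩
  rw [comap_ind_map (𝒳 := 𝒳) F b hb, comap_ind_map (𝒳 := 𝒳) F' b hb]
  subst hb
  ext U s
  let q : F.obj (σ.obj z) ⟶ F'.obj (σ.obj z) := u.app z
  let q' : F.obj (σ.obj z') ⟶ F'.obj (σ.obj z') := u.app z'
  show q'.app _ ((F.map b.hom rfl).app U s) = (F'.map b.hom rfl).app U (q.app U s)
  have hle : StMod.bmap 𝒳 b.hom ⁻¹ᵁ U ≤ StMod.bmap 𝒳 (σ.map (D.baseHom b.hom)) ⁻¹ᵁ U :=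
    (show StMod.bmap 𝒳 (σ.map (D.baseHom b.hom)) = StMod.bmap 𝒳 b.hom from D.bmap_baseHom b.hom) ▸ le_rfl
  rw [← mp_self F b.hom s, ← mp_self F' b.hom (q.app U s), D.mp_section hF b.hom hle, D.mp_section hF' b.hom hle]
  refine (Scheme.Modules.Hom.app_smul q' _ _).trans (congrArg (fun y => _ • y) ?_)
  have e := mp_natural (StMod.Mod.comap (toBase σ) F) u (D.baseHom b.hom) hle s
  simp only [mp_apply, comap_toBase_map] at e ⊢
  exact e.symm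

theorem SecData.isEquivalence (D : SecData σ A) (χ : A ⟶ TwSh.GmPsh S) :
    ((TwSh.isTwistedQ 𝒳 D.ι χ 1).ι ⋙ StMod.comapQ (toBase σ)).IsEquivalence := by
  have := isEquivalence_comapQ_ind (lifts_of_isFibGrpd D.hX) D.isDense
  have : (StMod.comapQ (toBase σ)).Faithful := Functor.Faithful.of_iso (comapQFacIso (π := σ))
  have hfull : ((TwSh.isTwistedQ 𝒳 D.ι χ 1).ι ⋙ StMod.comapQ (toBase σ)).Full := by
    refine ⟨fun {F F'} u => ?_⟩
    obtain ⟨v, hv⟩ := D.exists_twHom F.property F'.property u.hom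
    obtain ⟨t, ht⟩ := (StMod.comapQ (ind (𝒳 := 𝒳) σ.obj)).map_surjective
      (X := F.obj) (Y := F'.obj) ⟨v⟩
    refine ⟨⟨t⟩, ObjectProperty.hom_ext _ (StMod.Mod.hom_ext fun z => ?_)⟩
    exact congr((InducedCategory.Hom.hom $ht).app z).trans (hv z)
  have hess : ((TwSh.isTwistedQ 𝒳 D.ι χ 1).ι ⋙ StMod.comapQ (toBase σ)).EssSurj := by
    refine ⟨fun G => ?_⟩
    let G₀ : StMod.QCoh (Ind (𝒳 := 𝒳) σ.obj) :=
      ⟨D.twMod χ G.obj, D.twMod_isCartesian χ G.property.1, fun z => G.property.2 z⟩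
    let F := (StMod.comapQ (ind (𝒳 := 𝒳) σ.obj)).objPreimage G₀
    let i := (StMod.comapQ (ind (𝒳 := 𝒳) σ.obj)).objObjPreimageIso G₀
    refine ⟨⟨F, D.isTwisted_of_iso χ (F := F) ((StMod.isQCoh _).ι.mapIso i)⟩, ⟨?_⟩⟩
    exact (comapQFacIso (π := σ)).symm.app F ≪≫ (StMod.comapQ (toInd (π := σ))).mapIso i ≪≫
      (StMod.isQCoh (Src σ)).isoMk (X := (StMod.comapQ (toInd (π := σ))).obj G₀) (D.comapTwIso χ G.obj)
  exact { }

end Section

end Groth.StDescent
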