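import Groth.Agent.StDescent.Datum

/-!
# The descended module over an object and its comparison to the family (helper34)
-/

set_option autoImplicit false
set_option backward.isDefEq.respectTransparency false
set_option backward.isDefEq.respectTransparency.types false

universe t w v u

open CategoryTheory CategoryTheory.Limits AlgebraicGeometry Opposite TopologicalSpace

noncomputable section

namespace Groth.StDescent

open Groth.DescentBase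
open Groth.QCohMod (res res_res res_self res_app res_smul)
open Groth.PicAux (pullSec pullSec_map)
open Groth.StModSect

variable {S : Scheme.{u}} {𝒳 : BasedCategory.{v, w} (Over S)} {T : Type t} {o : T → 𝒳.obj}

theorem mp_eq_cmp_el {𝒵 : BasedCategory.{v, t} (Over S)} (F : StMod.Mod 𝒵) {ζ' ζ : 𝒵.obj} (φ : ζ' ⟶ ζ)
    {g : StMod.sch 𝒵 ζ' ⟶ StMod.sch 𝒵 ζ} (hg : StMod.bmap 𝒵 φ = g) {U : (StMod.sch 𝒵 ζ).Opens}
    (h : ⊤ ≤ StMod.bmap 𝒵 φ ⁻¹ᵁ U) (h' : ⊤ ≤ g ⁻¹ᵁ U) (x : Γ(F.obj ζ, U)) :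
    mp F φ h x = (cmp F φ hg).app ⊤ (el g h' x) := by
  rw [el, ← res_app]
  exact (mp_eq F φ hg h h' x).trans (congrArg _ (cmp_pullSec F φ hg x).symm)

section Imp

variable (G : StMod.Mod (Ind o))

/-- The module over a member, read on the scheme under it in `𝒳`. -/
abbrev gObj (w : T) : (StMod.sch 𝒳 (o w)).Modules := G.obj w

/-- Restriction along a morphism of members, with every type read in `𝒳`. -/
def imp {w' w : T} (ψ : o w' ⟶ o w) {U : (StMod.sch 𝒳 (o w)).Opens} {V : (StMod.sch 𝒳 (o w')).Opens}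
    (h : V ≤ StMod.bmap 𝒳 ψ ⁻¹ᵁ U) : Γ(gObj G w, U) →+ Γ(gObj G w', V) :=
  mp G (hm o ψ) h

theorem imp_congr {w' w : T} {ψ ψ' : o w' ⟶ o w} (e : ψ = ψ') {U : (StMod.sch 𝒳 (o w)).Opens}
    {V : (StMod.sch 𝒳 (o w')).Opens} (h : V ≤ StMod.bmap 𝒳 ψ ⁻¹ᵁ U) (h' : V ≤ StMod.bmap 𝒳 ψ' ⁻¹ᵁ U)
    (s : Γ(gObj G w, U)) : imp G ψ h s = imp G ψ' h' s := by
  subst e; rfl

theorem imp_imp {w'' w' w : T} (ψ : o w'' ⟶ o w') (φ : o w' ⟶ o w) {U : (StMod.sch 𝒳 (o w)).Opens}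
    {V : (StMod.sch 𝒳 (o w')).Opens} {W : (StMod.sch 𝒳 (o w'')).Opens}
    (h : V ≤ StMod.bmap 𝒳 φ ⁻¹ᵁ U) (h' : W ≤ StMod.bmap 𝒳 ψ ⁻¹ᵁ V) (s : Γ(gObj G w, U)) :
    imp G ψ h' (imp G φ h s) = imp G (ψ ≫ φ) (le_preimage_comp ψ φ h h') s :=
  mp_mp G (hm o ψ) (hm o φ) h h' s

theorem imp_res {w' w : T} (φ : o w' ⟶ o w) {U U' : (StMod.sch 𝒳 (o w)).Opens}
    {V : (StMod.sch 𝒳 (o w')).Opens} (hU : U' ≤ U) (h : V ≤ StMod.bmap 𝒳 φ ⁻¹ᵁ U') (s : Γ(gObj G w, U)) :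
    imp G φ h (res (gObj G w) hU s) = imp G φ (h.trans ((StMod.bmap 𝒳 φ).preimage_mono hU)) s :=
  mp_res G (hm o φ) hU h s

theorem res_imp {w' w : T} (φ : o w' ⟶ o w) {U : (StMod.sch 𝒳 (o w)).Opens}
    {V V' : (StMod.sch 𝒳 (o w')).Opens} (h : V ≤ StMod.bmap 𝒳 φ ⁻¹ᵁ U) (hV : V' ≤ V) (s : Γ(gObj G w, U)) :
    res (gObj G w') hV (imp G φ h s) = imp G φ (hV.trans h) s :=
  res_mp G (hm o φ) h hV s

theorem imp_smul {w' w : T} (φ : o w' ⟶ o w) {U : (StMod.sch 𝒳 (o w)).Opens}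
    {V : (StMod.sch 𝒳 (o w')).Opens} (h : V ≤ StMod.bmap 𝒳 φ ⁻¹ᵁ U) (r : Γ(StMod.sch 𝒳 (o w), U))
    (s : Γ(gObj G w, U)) : imp G φ h (r • s) = (StMod.bmap 𝒳 φ).appLE U V h r • imp G φ h s :=
  mp_smul G (hm o φ) h r s

theorem imp_id (w : T) {U V : (StMod.sch 𝒳 (o w)).Opens} (h : V ≤ StMod.bmap 𝒳 (𝟙 (o w)) ⁻¹ᵁ U)
    (h' : V ≤ U) (s : Γ(gObj G w, U)) : imp G (𝟙 (o w)) h s = res (gObj G w) h' s :=
  (mp_congr G (show hm o (𝟙 (o w)) = 𝟙 _ from InducedCategory.hom_ext rfl) h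
    (by rw [StMod.bmap_id]; exact h') s).trans (mp_id G w _ h' s)

theorem imp_self {w' w : T} (φ : o w' ⟶ o w) {U : (StMod.sch 𝒳 (o w)).Opens} (s : Γ(gObj G w, U)) :
    imp G φ le_rfl s = (show Γ(gObj G w', StMod.bmap 𝒳 φ ⁻¹ᵁ U) from (G.map (hm o φ) rfl).app U s) :=
  mp_self G (hm o φ) s

end Imp

variable {G : StMod.Mod (Ind o)} {ξ : 𝒳.obj} {κ : Type u} {z : κ → T}

section Compat

variable (hX : Lifts 𝒳) (ho : IsDense o) (hG : G.IsCartesian) (a : ∀ k, o (z k) ⟶ ξ)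
  {U : (StMod.sch 𝒳 ξ).Opens}

/-- Compatibility of a family on the cover with all test objects. -/
def Compat (x : ∀ k, Γ(gObj G (z k), StMod.bmap 𝒳 (a k) ⁻¹ᵁ U)) : Prop :=
  ∀ (i j : κ) (w : T) (ψ₁ : o w ⟶ o (z i)) (ψ₂ : o w ⟶ o (z j)), ψ₁ ≫ a i = ψ₂ ≫ a j →
    ∀ (V : (StMod.sch 𝒳 (o w)).Opens) (h₁ : V ≤ StMod.bmap 𝒳 ψ₁ ⁻¹ᵁ StMod.bmap 𝒳 (a i) ⁻¹ᵁ U)
      (h₂ : V ≤ StMod.bmap 𝒳 ψ₂ ⁻¹ᵁ StMod.bmap 𝒳 (a j) ⁻¹ᵁ U),
      imp G (ψ₁) h₁ (x i) = imp G (ψ₂) h₂ (x j)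

theorem compat_of_isCompat {x : ∀ k, Γ(gObj G (z k), StMod.bmap 𝒳 (a k) ⁻¹ᵁ U)}
    (hx : IsCompat (datum hX ho hG a) U x) : Compat a x := by
  intro i j w ψ₁ ψ₂ hψ V h₁ h₂
  refine mp_injective_of_lifts (F := G) (ho.lifts hX) hG fun w' χ hV => ?_
  refine (mp_mp G χ (hm o ψ₁) h₁ hV (x i)).trans (Eq.trans ?_ (mp_mp G χ (hm o ψ₂) h₂ hV (x j)).symm)
  have hψ' : (χ.hom ≫ ψ₁) ≫ a i = (χ.hom ≫ ψ₂) ≫ a j := by rw [Category.assoc, Category.assoc, hψ]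
  have hh₁ := le_preimage_comp χ (hm o ψ₁) h₁ hV
  have hh₂ := le_preimage_comp χ (hm o ψ₂) h₂ hV
  have hf : StMod.bmap 𝒳 (χ.hom ≫ ψ₁) ≫ StMod.bmap 𝒳 (a i) =
      StMod.bmap 𝒳 (χ.hom ≫ ψ₂) ≫ StMod.bmap 𝒳 (a j) := by
    rw [← StMod.bmap_comp, ← StMod.bmap_comp, hψ']
  refine (mp_eq_cmp_el G (χ ≫ hm o ψ₁) (g := StMod.bmap 𝒳 (χ.hom ≫ ψ₁)) rfl hh₁ hh₁ (x i)).trans ?_
  refine Eq.trans ?_ (mp_eq_cmp_el G (χ ≫ hm o ψ₂) (g := StMod.bmap 𝒳 (χ.hom ≫ ψ₂)) rfl hh₂ hh₂ (x j)).symm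
  exact (cmp_dEl hX ho hG a (χ.hom ≫ ψ₁) (χ.hom ≫ ψ₂) hψ' hf _).symm.trans
    (congrArg _ (hx (StMod.bmap 𝒳 (χ.hom ≫ ψ₁)) (StMod.bmap 𝒳 (χ.hom ≫ ψ₂)) hf hh₁ hh₂))

theorem isCompat_of_compat {x : ∀ k, Γ(gObj G (z k), StMod.bmap 𝒳 (a k) ⁻¹ᵁ U)} (hx : Compat a x) :
    IsCompat (datum hX ho hG a) U x := by
  intro i j Y g₁ g₂ h h₁ h₂
  obtain ⟨w, ψ₁, ψ₂, e, e₁, e₂, hψ⟩ := exists_test hX ho (a i) (a j) g₁ g₂ h
  refine bc_injective e g₂ ?_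
  have hl₁ : ⊤ ≤ StMod.bmap 𝒳 ψ₁ ⁻¹ᵁ StMod.bmap 𝒳 (a i) ⁻¹ᵁ U := by
    rw [← e₁, Scheme.Hom.comp_preimage]; exact e.hom.preimage_mono h₁
  have hl₂ : ⊤ ≤ StMod.bmap 𝒳 ψ₂ ⁻¹ᵁ StMod.bmap 𝒳 (a j) ⁻¹ᵁ U := by
    rw [← e₂, Scheme.Hom.comp_preimage]; exact e.hom.preimage_mono h₂
  have key : ∀ (g : StMod.sch 𝒳 (o w) ⟶ StMod.sch 𝒳 (o (z j))), g = StMod.bmap 𝒳 ψ₂ →
      ∀ (g' : StMod.sch 𝒳 (o w) ⟶ StMod.sch 𝒳 (o (z i))), g' = StMod.bmap 𝒳 ψ₁ →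
      ∀ (hf : g' ≫ StMod.bmap 𝒳 (a i) = g ≫ StMod.bmap 𝒳 (a j)) (l₁ : ⊤ ≤ g' ⁻¹ᵁ StMod.bmap 𝒳 (a i) ⁻¹ᵁ U)
        (l₂ : ⊤ ≤ g ⁻¹ᵁ StMod.bmap 𝒳 (a j) ⁻¹ᵁ U),
        dEl (datum hX ho hG a) g' g hf (el g' l₁ (x i)) = el g l₂ (x j) := by
    rintro g rfl g' rfl hf l₁ l₂
    refine (cmp_app_bijective G hG (hm o ψ₂) (rfl : _ = StMod.bmap 𝒳 ψ₂) ⊤).1 ?_
    refine (cmp_dEl hX ho hG a ψ₁ ψ₂ hψ hf _).trans ?_
    refine (mp_eq_cmp_el G (hm o ψ₁) (g := StMod.bmap 𝒳 ψ₁) rfl l₁ l₁ (x i)).symm.trans ?_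
    exact (hx i j w ψ₁ ψ₂ hψ ⊤ l₁ l₂).trans
      (mp_eq_cmp_el G (hm o ψ₂) (g := StMod.bmap 𝒳 ψ₂) rfl l₂ l₂ (x j))
  refine (bc_dEl (D := datum hX ho hG a) e.hom g₁ g₂ h (e.hom ≫ g₁) rfl (e.hom ≫ g₂) rfl _).trans ?_
  refine (congrArg _ (bc_el e.hom g₁ _ rfl h₁ (x i))).trans ?_
  refine Eq.trans ?_ (bc_el e.hom g₂ _ rfl h₂ (x j)).symm
  exact key _ e₂ _ e₁ _ _ _

end Compat

/-- The module descended from the family, as seen by sections. -/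
structure Cone (G : StMod.Mod (Ind o)) (ξ : 𝒳.obj) where
  /-- the module -/
  M : (StMod.sch 𝒳 ξ).Modules
  qc : M.IsQuasicoherent
  /-- the comparison -/
  θ : ∀ (w : T) (b : o w ⟶ ξ), M ⟶ (Scheme.Modules.pushforward (StMod.bmap 𝒳 b)).obj (gObj G w)
  nat : ∀ (w w' : T) (ψ : o w' ⟶ o w) (b : o w ⟶ ξ) (b' : o w' ⟶ ξ), ψ ≫ b = b' →
    ∀ (U : (StMod.sch 𝒳 ξ).Opens) (V : (StMod.sch 𝒳 (o w')).Opens)
      (h : V ≤ StMod.bmap 𝒳 ψ ⁻¹ᵁ StMod.bmap 𝒳 b ⁻¹ᵁ U) (h' : V ≤ StMod.bmap 𝒳 b' ⁻¹ᵁ U) (s : Γ(M, U)),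
      imp G (ψ) h (show Γ(gObj G w, StMod.bmap 𝒳 b ⁻¹ᵁ U) from (θ w b).app U s) =
        res (gObj G w') h' (show Γ(gObj G w', StMod.bmap 𝒳 b' ⁻¹ᵁ U) from (θ w' b').app U s)
  bij : ∀ (w : T) (b : o w ⟶ ξ), IsIso
    (((Scheme.Modules.pullbackPushforwardAdjunction (StMod.bmap 𝒳 b)).homEquiv M (gObj G w)).symm (θ w b))
  glue : ∀ (U : (StMod.sch 𝒳 ξ).Opens) (x : ∀ (w : T) (b : o w ⟶ ξ), Γ(gObj G w, StMod.bmap 𝒳 b ⁻¹ᵁ U)),
    (∀ (w w' : T) (ψ : o w' ⟶ o w) (b : o w ⟶ ξ) (b' : o w' ⟶ ξ), ψ ≫ b = b' →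
      ∀ (V : (StMod.sch 𝒳 (o w')).Opens) (h : V ≤ StMod.bmap 𝒳 ψ ⁻¹ᵁ StMod.bmap 𝒳 b ⁻¹ᵁ U)
        (h' : V ≤ StMod.bmap 𝒳 b' ⁻¹ᵁ U), imp G (ψ) h (x w b) = res (gObj G w') h' (x w' b')) →
    ∃ s : Γ(M, U), ∀ w b, (θ w b).app U s = x w b
  ext : ∀ (U : (StMod.sch 𝒳 ξ).Opens) (s s' : Γ(M, U)),
    (∀ (w : T) (b : o w ⟶ ξ), (θ w b).app U s = (θ w b).app U s') → s = s'

/-- A map of modules from compatible section maps. -/
def mkPushHom {X Y : Scheme.{u}} (g : Y ⟶ X) (M : X.Modules) (N : Y.Modules)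
    (t : ∀ U : X.Opens, Γ(M, U) → Γ(N, g ⁻¹ᵁ U))
    (hadd : ∀ U m m', t U (m + m') = t U m + t U m')
    (hsmul : ∀ U (r : Γ(X, U)) m, t U (r • m) = g.app U r • t U m)
    (hres : ∀ U V (h : V ≤ U) m, t V (res M h m) = res N (g.preimage_mono h) (t U m)) :
    M ⟶ (Scheme.Modules.pushforward g).obj N :=
  ⟨{ app := fun U => ModuleCat.ofHom (X := M.val.obj U)
        (Y := ((Scheme.Modules.pushforward g).obj N).val.obj U)
        { toFun := t U.unop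
          map_add' := hadd U.unop
          map_smul' := hsmul U.unop }
     naturality := fun {U V} i => by
        ext m
        exact hres U.unop V.unop (leOfHom i.unop) m }⟩

theorem exists_cone (hX : Lifts 𝒳) (ho : IsDense o) (hG : G.IsCartesian) (hG' : G.IsLocQCoh) (ξ : 𝒳.obj) :
    Nonempty (Cone G ξ) := by
  obtain ⟨κ, z, a, hcov⟩ := ho.cover ξ
  let f := fun k => StMod.bmap 𝒳 (a k)
  have hfl : ∀ k, Flat (f k) := flat_of_mem_fpqcPrecoverage hcov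
  have hsurj := exists_mem_range_of_fpqc hcov
  obtain ⟨M, hMq, ⟨e⟩⟩ := exists_toDescentData_iso hcov (datum hX ho hG a) (fun k => hG' (z k))
  let ek : ∀ k, (Scheme.Modules.pullback (f k)).obj M ⟶ G.obj (z k) := fun k => e.hom.hom k
  let ek' : ∀ k, G.obj (z k) ⟶ (Scheme.Modules.pullback (f k)).obj M := fun k => e.inv.hom k
  have heh : ∀ k, ek k ≫ ek' k = 𝟙 _ := fun k => congrArg (fun D => D.hom k) e.hom_inv_id
  have hhe : ∀ k, ek' k ≫ ek k = 𝟙 _ := fun k => congrArg (fun D => D.hom k) e.inv_hom_id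
  let x : ∀ (U : (StMod.sch 𝒳 ξ).Opens) (s : Γ(M, U)) (k : κ), Γ(gObj G (z k), f k ⁻¹ᵁ U) :=
    fun U s k => (ek k).app (f k ⁻¹ᵁ U) (pullSec (f k) M s)
  have hxc : ∀ U s, Compat a (x U s) := by
    intro U s
    refine compat_of_isCompat hX ho hG a fun i j Y g₁ g₂ h h₁ h₂ => ?_
    refine (congrArg _ (elMap_el (ek i) g₁ h₁ _).symm).trans ?_
    refine (dEl_elMap e.hom g₁ g₂ h _).trans ?_
    exact (congrArg _ (isCompat_pullSec (f := f) M s g₁ g₂ h h₁ h₂)).trans (elMap_el (ek j) g₂ h₂ _)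
  have hxinj : ∀ U (s s' : Γ(M, U)), (∀ k, x U s k = x U s' k) → s = s' := by
    intro U s s' h
    refine pullSec_injective hsurj fun k => ?_
    have hk := congrArg ((ek' k).app _) (h k)
    have hid : ∀ y, (ek' k).app (f k ⁻¹ᵁ U) ((ek k).app (f k ⁻¹ᵁ U) y) = y := fun y =>
      congr(($(heh k)).app (f k ⁻¹ᵁ U) y)
    exact (hid _).symm.trans (hk.trans (hid _))
  -- the cover pulled back to a member
  have hpb : ∀ (w : T) (b : o w ⟶ ξ), ∃ (wk : κ → T) (χ : ∀ k, o (wk k) ⟶ o (z k)) (ψ : ∀ k, o (wk k) ⟶ o w),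
      (∀ k, ψ k ≫ b = χ k ≫ a k) ∧
      (∀ k, IsPullback (StMod.bmap 𝒳 (ψ k)) (StMod.bmap 𝒳 (χ k)) (StMod.bmap 𝒳 b) (f k)) := by
    intro w b
    have h : ∀ k, ∃ (wk : T) (χ : o wk ⟶ o (z k)) (ψ : o wk ⟶ o w), ψ ≫ b = χ ≫ a k ∧
        IsPullback (StMod.bmap 𝒳 ψ) (StMod.bmap 𝒳 χ) (StMod.bmap 𝒳 b) (f k) := by
      intro k
      obtain ⟨wk, χ, e', he⟩ := ho.lift (z k) (pullback.snd (StMod.bmap 𝒳 b) (f k))
      obtain ⟨ψ, hψ, hb⟩ := hX.factor b (χ ≫ a k) (e'.hom ≫ pullback.fst (StMod.bmap 𝒳 b) (f k)) (by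
        rw [StMod.bmap_comp, he, Category.assoc, Category.assoc, pullback.condition])
      refine ⟨wk, χ, ψ, hψ, ?_⟩
      rw [hb, he]
      exact (IsPullback.of_hasPullback (StMod.bmap 𝒳 b) (f k)).of_iso e'.symm (Iso.refl _) (Iso.refl _)
        (Iso.refl _) (by simp) (by simp) (by simp) (by simp)
    choose wk χ ψ h₁ h₂ using h
    exact ⟨wk, χ, ψ, h₁, h₂⟩
  choose wk χ ψ hψχ hpull using hpb
  have hcov' : ∀ (w : T) (b : o w ⟶ ξ),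
      Presieve.ofArrows (fun k => StMod.sch 𝒳 (o (wk w b k))) (fun k => StMod.bmap 𝒳 (ψ w b k)) ∈
        Scheme.fpqcPrecoverage (StMod.sch 𝒳 (o w)) := fun w b =>
    Precoverage.mem_coverings_of_isPullback _ hcov _ _ _ (hpull w b)
  have hT : ∀ (w : T) (b : o w ⟶ ξ) U s, ∃ t : Γ(gObj G w, StMod.bmap 𝒳 b ⁻¹ᵁ U),
      ∀ (v : T) (φ : o v ⟶ o w) (k : κ) (c : o v ⟶ o (z k)), φ ≫ b = c ≫ a k →
      ∀ (V : (StMod.sch 𝒳 (o v)).Opens) (h₁ : V ≤ StMod.bmap 𝒳 φ ⁻¹ᵁ StMod.bmap 𝒳 b ⁻¹ᵁ U)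
        (h₂ : V ≤ StMod.bmap 𝒳 c ⁻¹ᵁ f k ⁻¹ᵁ U), imp G (φ) h₁ t = imp G (c) h₂ (x U s k) := by
    intro w b U s
    have hle : ∀ k, StMod.bmap 𝒳 (ψ w b k) ⁻¹ᵁ StMod.bmap 𝒳 b ⁻¹ᵁ U ≤
        StMod.bmap 𝒳 (χ w b k) ⁻¹ᵁ f k ⁻¹ᵁ U := fun k => by
      rw [← Scheme.Hom.comp_preimage, ← Scheme.Hom.comp_preimage, (hpull w b k).w]
    obtain ⟨t, ht⟩ := exists_mp_eq (F := G) (ξ := w) (ho.lifts hX) hG hG' (ζ := wk w b)
      (fun k => hm o (ψ w b k)) (hcov' w b) (U := StMod.bmap 𝒳 b ⁻¹ᵁ U)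
      (fun k => imp G ((χ w b k)) (hle k) (x U s k)) (by
        intro k l v φ₁ φ₂ hφ V h₁ h₂
        refine (imp_imp G φ₁.hom (χ w b k) (hle k) h₁ _).trans
          (Eq.trans ?_ (imp_imp G φ₂.hom (χ w b l) (hle l) h₂ _).symm)
        refine hxc U s k l v _ _ ?_ V _ _
        show (φ₁.hom ≫ χ w b k) ≫ a k = (φ₂.hom ≫ χ w b l) ≫ a l
        rw [Category.assoc, Category.assoc, ← hψχ, ← hψχ, ← Category.assoc, ← Category.assoc]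
        exact congrArg (· ≫ b) (congrArg InducedCategory.Hom.hom hφ))
    refine ⟨t, fun v φ k c hc V h₁ h₂ => ?_⟩
    obtain ⟨γ, hγ, hγb⟩ := hX.factor (ψ w b k) φ ((hpull w b k).lift (StMod.bmap 𝒳 φ) (StMod.bmap 𝒳 c) (by
      rw [← StMod.bmap_comp, hc, StMod.bmap_comp])) (IsPullback.lift_fst _ _ _ _)
    have hγc : γ ≫ χ w b k = c := hX.ext (a k) (by
      rw [Category.assoc, ← hψχ, ← Category.assoc, hγ, hc]) (by
      rw [StMod.bmap_comp, hγb, IsPullback.lift_snd])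
    have hV : V ≤ StMod.bmap 𝒳 γ ⁻¹ᵁ StMod.bmap 𝒳 (ψ w b k) ⁻¹ᵁ StMod.bmap 𝒳 b ⁻¹ᵁ U := by
      rw [← Scheme.Hom.comp_preimage (StMod.bmap 𝒳 γ), ← StMod.bmap_comp, hγ]; exact h₁
    have htk : imp G (ψ w b k) le_rfl t = imp G (χ w b k) (hle k) (x U s k) := ht k
    have e1 := congrArg (imp G γ hV) htk
    rw [imp_imp, imp_imp] at e1
    exact (imp_congr G hγ.symm h₁ _ t).trans
      (e1.trans (imp_congr G hγc _ h₂ _))
  choose t ht using hT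
  have tuniq : ∀ (w : T) (b : o w ⟶ ξ) U s (t' : Γ(gObj G w, StMod.bmap 𝒳 b ⁻¹ᵁ U)),
      (∀ (k : κ) (h : StMod.bmap 𝒳 (ψ w b k) ⁻¹ᵁ StMod.bmap 𝒳 b ⁻¹ᵁ U ≤
          StMod.bmap 𝒳 (χ w b k) ⁻¹ᵁ f k ⁻¹ᵁ U),
        imp G ((ψ w b k)) le_rfl t' = imp G ((χ w b k)) h (x U s k)) → t' = t w b U s := by
    intro w b U s t' h
    have : ∀ k, Flat (StMod.bmap (Ind o) (hm o (ψ w b k))) := flat_of_mem_fpqcPrecoverage (hcov' w b)
    refine mp_injective (F := G) (fun k => hm o (ψ w b k)) hG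
      (fun y _ => exists_mem_range_of_fpqc (hcov' w b) y) fun k => ?_
    have hle : StMod.bmap 𝒳 (ψ w b k) ⁻¹ᵁ StMod.bmap 𝒳 b ⁻¹ᵁ U ≤
        StMod.bmap 𝒳 (χ w b k) ⁻¹ᵁ f k ⁻¹ᵁ U := by
      rw [← Scheme.Hom.comp_preimage, ← Scheme.Hom.comp_preimage, (hpull w b k).w]
    exact (h k hle).trans (ht w b U s _ (ψ w b k) k (χ w b k) (hψχ w b k) _ le_rfl hle).symm
  have xadd : ∀ U s s' k, x U (s + s') k = x U s k + x U s' k := fun U s s' k =>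
    (congrArg ((ek k).app (f k ⁻¹ᵁ U)) (map_add _ s s')).trans (map_add _ _ _)
  have hadd : ∀ w b U s s', t w b U (s + s') = t w b U s + t w b U s' := fun w b U s s' => by
    refine (tuniq w b U (s + s') _ fun k h => ?_).symm
    rw [map_add, xadd, map_add, ht w b U s _ (ψ w b k) k (χ w b k) (hψχ w b k) _ le_rfl h,
      ht w b U s' _ (ψ w b k) k (χ w b k) (hψχ w b k) _ le_rfl h]
  have hsmul : ∀ w b U (r : Γ(StMod.sch 𝒳 ξ, U)) s,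
      t w b U (r • s) = (StMod.bmap 𝒳 b).app U r • t w b U s := fun w b U r s => by
    refine (tuniq w b U (r • s) _ fun k h => ?_).symm
    have hx : x U (r • s) k = (f k).app U r • x U s k := by
      show (ek k).app _ (pullSec (f k) M (r • s)) = _
      rw [PicAux.pullSec_smul, Scheme.Modules.Hom.app_smul]
    rw [hx, imp_smul, imp_smul, ht w b U s _ (ψ w b k) k (χ w b k) (hψχ w b k) _ le_rfl h]
    refine congrArg (· • _) ?_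
    show ((StMod.bmap 𝒳 b).app U ≫ (StMod.bmap 𝒳 (ψ w b k)).appLE _ _ le_rfl) r =
      ((f k).app U ≫ (StMod.bmap 𝒳 (χ w b k)).appLE _ _ h) r
    rw [Scheme.Hom.app_eq_appLE, Scheme.Hom.app_eq_appLE, Scheme.Hom.appLE_comp_appLE,
      Scheme.Hom.appLE_comp_appLE]
    simp only [(hpull w b k).w]
  have hres : ∀ w b U V (h : V ≤ U) s,
      t w b V (res M h s) = res (gObj G w) ((StMod.bmap 𝒳 b).preimage_mono h) (t w b U s) := fun w b U V h s => by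
    refine (tuniq w b V _ _ fun k hk => ?_).symm
    have hx : x V (res M h s) k = res (gObj G (z k)) ((f k).preimage_mono h) (x U s k) := by
      show (ek k).app _ (pullSec (f k) M (res M h s)) = _
      refine Eq.trans ?_ (res_app (ek k) _ _).symm
      exact congrArg _ (PicAux.res_pullSec (f k) M h s).symm
    rw [hx, imp_res, imp_res]
    exact ht w b U s _ (ψ w b k) k (χ w b k) (hψχ w b k) _ _ _
  let θ : ∀ (w : T) (b : o w ⟶ ξ), M ⟶ (Scheme.Modules.pushforward (StMod.bmap 𝒳 b)).obj (gObj G w) :=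
    fun w b => mkPushHom (StMod.bmap 𝒳 b) M (G.obj w) (t w b) (hadd w b) (hsmul w b) (hres w b)
  have hnat : ∀ (w w' : T) (φ : o w' ⟶ o w) (b : o w ⟶ ξ) (b' : o w' ⟶ ξ), φ ≫ b = b' →
      ∀ (U : (StMod.sch 𝒳 ξ).Opens) (V : (StMod.sch 𝒳 (o w')).Opens)
        (h : V ≤ StMod.bmap 𝒳 φ ⁻¹ᵁ StMod.bmap 𝒳 b ⁻¹ᵁ U) (h' : V ≤ StMod.bmap 𝒳 b' ⁻¹ᵁ U) (s : Γ(M, U)),
        imp G (φ) h (t w b U s) = res (gObj G w') h' (t w' b' U s) := by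
    rintro w w' φ b _ rfl U V h h' s
    have hfull : StMod.bmap 𝒳 (φ ≫ b) ⁻¹ᵁ U ≤ StMod.bmap 𝒳 φ ⁻¹ᵁ StMod.bmap 𝒳 b ⁻¹ᵁ U := by
      rw [StMod.bmap_comp, Scheme.Hom.comp_preimage]
    have : imp G (φ) hfull (t w b U s) = t w' (φ ≫ b) U s := by
      refine tuniq w' (φ ≫ b) U s _ fun k hk => ?_
      rw [imp_imp]
      exact ht w b U s _ (ψ w' (φ ≫ b) k ≫ φ) k (χ w' (φ ≫ b) k)
        (by rw [Category.assoc, hψχ]) _ _ hk
    rw [← this]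
    exact (res_imp G (φ) hfull h' _).symm
  have ht₀ : ∀ (k : κ) U s, t (z k) (a k) U s = x U s k := fun k U s => by
    have h := ht (z k) (a k) U s (z k) (𝟙 _) k (𝟙 _) rfl (f k ⁻¹ᵁ U)
      (by rw [StMod.bmap_id]; exact le_rfl) (by rw [StMod.bmap_id]; exact le_rfl)
    rw [imp_id G (z k) _ le_rfl, imp_id G (z k) _ le_rfl, res_self, res_self] at h
    exact h
  refine ⟨{
    M := M
    qc := hMq
    θ := θ
    nat := hnat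
    bij := ?_
    glue := ?_
    ext := fun U s s' h => hxinj U s s' fun k => by rw [← ht₀, ← ht₀]; exact h (z k) (a k) }⟩
  · intro w b
    let θ' : ∀ (w : T) (b : o w ⟶ ξ), (Scheme.Modules.pullback (StMod.bmap 𝒳 b)).obj M ⟶ G.obj w := fun w b =>
      ((Scheme.Modules.pullbackPushforwardAdjunction (StMod.bmap 𝒳 b)).homEquiv M (gObj G w)).symm (θ w b)
    have hθ' : ∀ (w : T) (b : o w ⟶ ξ) U (s : Γ(M, U)),
        (θ' w b).app (StMod.bmap 𝒳 b ⁻¹ᵁ U) (pullSec (StMod.bmap 𝒳 b) M s) = t w b U s := fun w b U s => by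
      have h : (Scheme.Modules.pullbackPushforwardAdjunction (StMod.bmap 𝒳 b)).unit.app M ≫
          (Scheme.Modules.pushforward (StMod.bmap 𝒳 b)).map (θ' w b) = θ w b :=
        ((Scheme.Modules.pullbackPushforwardAdjunction (StMod.bmap 𝒳 b)).homEquiv_unit M (G.obj w) (θ' w b)).symm.trans
          (((Scheme.Modules.pullbackPushforwardAdjunction (StMod.bmap 𝒳 b)).homEquiv M (G.obj w)).apply_symm_apply _)
      exact congr(($h).app U s)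
    have hcomp : ∀ (w w' : T) (φ : o w' ⟶ o w) (b : o w ⟶ ξ),
        (pullTo (StMod.bmap 𝒳 φ) (StMod.bmap 𝒳 b) (StMod.bmap 𝒳 (φ ≫ b)) (StMod.bmap_comp φ b).symm M).hom ≫
          θ' w' (φ ≫ b) =
        (Scheme.Modules.pullback (StMod.bmap 𝒳 φ)).map (θ' w b) ≫ cmp G (hm o φ) rfl := by
      intro w w' φ b
      refine pullback_hom_ext₂ _ _ fun U m => ?_
      simp only [Scheme.Modules.Hom.comp_app, CategoryTheory.comp_apply]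
      refine Eq.trans (congrArg _ (pullTo_pullSec _ _ _ _ _ m)) ?_
      rw [← res_app, hθ']
      refine Eq.trans ?_ (congrArg ((cmp G (hm o φ) rfl).app _) (pullSec_map _ _ _)).symm
      refine Eq.trans ?_ (congrArg (fun y => (cmp G (hm o φ) rfl).app _ (pullSec _ _ y)) (hθ' w b U m)).symm
      refine Eq.trans ?_ (cmp_pullSec G (hm o φ) rfl (t w b U m)).symm
      exact (hnat w w' φ b _ rfl U _ le_rfl _ m).symm.trans (imp_self G φ _)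
    have hk : ∀ k, θ' (z k) (a k) = ek k := fun k => pullback_hom_ext _ fun U m => (hθ' _ _ U m).trans (ht₀ k U m)
    have hiso : ∀ k, IsIso ((Scheme.Modules.pullback (StMod.bmap 𝒳 (ψ w b k))).map (θ' w b)) := fun k => by
      have h1 : IsIso (θ' (z k) (a k)) := by rw [hk]; exact ⟨ek' k, heh k, hhe k⟩
      have h2 : IsIso (cmp G (hm o (χ w b k)) (rfl : _ = StMod.bmap 𝒳 (χ w b k))) := isIso_cmp G hG _ rfl
      have h3 : IsIso (cmp G (hm o (ψ w b k)) (rfl : _ = StMod.bmap 𝒳 (ψ w b k))) := isIso_cmp G hG _ rfl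
      have h4 : IsIso (θ' (wk w b k) (χ w b k ≫ a k)) := by
        have := hcomp (z k) (wk w b k) (χ w b k) (a k)
        have : IsIso ((pullTo (StMod.bmap 𝒳 (χ w b k)) (StMod.bmap 𝒳 (a k)) _ (StMod.bmap_comp _ _).symm M).hom ≫
            θ' (wk w b k) (χ w b k ≫ a k)) := by rw [this]; infer_instance
        exact IsIso.of_isIso_comp_left (pullTo (StMod.bmap 𝒳 (χ w b k)) (StMod.bmap 𝒳 (a k))
          (StMod.bmap 𝒳 (χ w b k ≫ a k)) (StMod.bmap_comp _ _).symm M).hom _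
      rw [← hψχ] at h4
      have : IsIso ((Scheme.Modules.pullback (StMod.bmap 𝒳 (ψ w b k))).map (θ' w b) ≫
          cmp G (hm o (ψ w b k)) (rfl : _ = StMod.bmap 𝒳 (ψ w b k))) := by
        rw [← hcomp]; infer_instance
      exact IsIso.of_isIso_comp_right _ (cmp G (hm o (ψ w b k)) (rfl : _ = StMod.bmap 𝒳 (ψ w b k)))
    exact isIso_of_pullback (hcov' w b) (Groth.QCohMod.isQCoh_pullback_obj _ M) (hG' w) _ hiso
  · intro U y hy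
    let s : ∀ k, Γ((Scheme.Modules.pullback (f k)).obj M, f k ⁻¹ᵁ U) := fun k =>
      (ek' k).app (f k ⁻¹ᵁ U) (y (z k) (a k))
    have hc : Compat a (fun k => y (z k) (a k)) := by
      intro i j w ψ₁ ψ₂ hψ V h₁ h₂
      have hV : V ≤ StMod.bmap 𝒳 (ψ₁ ≫ a i) ⁻¹ᵁ U := by
        rw [StMod.bmap_comp, Scheme.Hom.comp_preimage]; exact h₁
      rw [hy _ _ ψ₁ (a i) _ rfl V h₁ hV, hy _ _ ψ₂ (a j) _ hψ.symm V h₂ hV]
    obtain ⟨m, hm'⟩ := exists_pullSec_eq hcov M (s := s) (by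
      intro i j Y g₁ g₂ h h₁ h₂
      refine (congrArg _ (elMap_el (ek' i) g₁ h₁ _).symm).trans ?_
      refine (dEl_elMap e.inv g₁ g₂ h _).trans ?_
      exact (congrArg _ (isCompat_of_compat hX ho hG a hc g₁ g₂ h h₁ h₂)).trans (elMap_el (ek' j) g₂ h₂ _))
    refine ⟨m, fun w b => (tuniq w b U m _ fun k hk => ?_).symm⟩
    have hx : x U m k = y (z k) (a k) := by
      show (ek k).app _ (pullSec (f k) M m) = _
      rw [hm' k]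
      exact congr(($(hhe k)).app (f k ⁻¹ᵁ U) (y (z k) (a k)))
    have hV : StMod.bmap 𝒳 (ψ w b k) ⁻¹ᵁ StMod.bmap 𝒳 b ⁻¹ᵁ U ≤ StMod.bmap 𝒳 (ψ w b k ≫ b) ⁻¹ᵁ U := by
      rw [StMod.bmap_comp, Scheme.Hom.comp_preimage]
    rw [hx, hy _ _ (ψ w b k) b _ rfl _ le_rfl hV, hy _ _ (χ w b k) (a k) _ (hψχ w b k).symm _ hk hV]
where
  isIso_of_pullback {ι : Type u} {Y : Scheme.{u}} {X : ι → Scheme.{u}} {g : ∀ i, X i ⟶ Y}
      (hg : Presieve.ofArrows X g ∈ Scheme.fpqcPrecoverage Y) {A B : Y.Modules} (hA : A.IsQuasicoherent)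
      (hB : B.IsQuasicoherent) (φ : A ⟶ B) (h : ∀ i, IsIso ((Scheme.Modules.pullback (g i)).map φ)) :
      IsIso φ := by
    let Φ := (Desc.modPF.{u}.toDescentData g).map φ
    let I := Pseudofunctor.DescentData.isoMk (D₁ := (Desc.modPF.{u}.toDescentData g).obj A)
      (D₂ := (Desc.modPF.{u}.toDescentData g).obj B) (fun i => @asIso _ _ _ _ (Φ.hom i) (h i))
      (fun Y q i₁ i₂ f₁ f₂ hf₁ hf₂ => Φ.comm q f₁ f₂ hf₁ hf₂)
    obtain ⟨ψ, hψ⟩ := (toDescentData_map_bijective hg B A).2 I.inv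
    refine ⟨ψ, (toDescentData_map_bijective hg A A).1 ?_, (toDescentData_map_bijective hg B B).1 ?_⟩
    · rw [Functor.map_comp, hψ, CategoryTheory.Functor.map_id]; exact I.hom_inv_id
    · rw [Functor.map_comp, hψ, CategoryTheory.Functor.map_id]; exact I.inv_hom_id

end Groth.StDescent
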