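import Groth.Agent.StDescent.Mp
import Groth.Agent.DescentBase.EffIso

/-!
# Descent data from modules on a dense family of objects (helper34)

`o : T → 𝒳.obj` is a family of objects, `Ind o` the full subcategory they span, read as a category over
`(Sch/S)`. A cover of `ξ` by members of the family turns a module on `Ind o` into a descent datum.
-/

set_option autoImplicit false
set_option backward.isDefEq.respectTransparency false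
set_option backward.isDefEq.respectTransparency.types false

universe t w v u

open CategoryTheory CategoryTheory.Limits AlgebraicGeometry Opposite TopologicalSpace

noncomputable section

namespace Groth.StDescent

open Groth.DescentBase
open Groth.QCohMod (res res_res res_self res_app)
open Groth.PicAux (pullSec pullSec_map)
open Groth.StModSect

section PullTo

variable {X Y T T' : Scheme.{u}}

theorem pullTo_natural (h : T' ⟶ T) (g : T ⟶ X) (g' : T' ⟶ X) (e : h ≫ g = g') {M N : X.Modules} (φ : M ⟶ N) :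
    (Scheme.Modules.pullback h).map ((Scheme.Modules.pullback g).map φ) ≫ (pullTo h g g' e N).hom =
      (pullTo h g g' e M).hom ≫ (Scheme.Modules.pullback g').map φ := by
  have h1 := (Scheme.Modules.pullbackComp h g).hom.naturality φ
  have h2 := (Scheme.Modules.pullbackCongr e).hom.naturality φ
  simp only [pullTo, Iso.trans_hom, Iso.app_hom, Category.assoc]
  rw [← Functor.comp_map, ← Category.assoc, h1, Category.assoc, h2]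

/-- Inverse image along an isomorphism is an equivalence. -/
def pullbackEquiv (e : T ≅ X) : X.Modules ≌ T.Modules :=
  CategoryTheory.Equivalence.mk (Scheme.Modules.pullback e.hom) (Scheme.Modules.pullback e.inv)
    ((Scheme.Modules.pullbackComp e.inv e.hom ≪≫ Scheme.Modules.pullbackCongr e.inv_hom_id ≪≫
      Scheme.Modules.pullbackId X).symm)
    (Scheme.Modules.pullbackComp e.hom e.inv ≪≫ Scheme.Modules.pullbackCongr e.hom_inv_id ≪≫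
      Scheme.Modules.pullbackId T)

theorem isEquivalence_pullback (e : T ≅ X) : (Scheme.Modules.pullback e.hom).IsEquivalence :=
  (pullbackEquiv e).isEquivalence_functor

end PullTo

variable {S : Scheme.{u}} {𝒳 : BasedCategory.{v, w} (Over S)} {T : Type t} (o : T → 𝒳.obj)

/-- The full subcategory on the family. -/
abbrev Ind : BasedCategory.{v, t} (Over S) where
  obj := InducedCategory 𝒳.obj o
  p := inducedFunctor o ⋙ 𝒳.p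

/-- Its inclusion. -/
abbrev ind : Ind o ⥤ᵇ 𝒳 where
  toFunctor := inducedFunctor o
  w := rfl

/-- A morphism of the subcategory. -/
abbrev hm {z z' : T} (ψ : o z ⟶ o z') : @Quiver.Hom (Ind o).obj _ z z' := InducedCategory.homMk ψ

/-- The family is dense for the fpqc topology and stable under base change. -/
structure IsDense : Prop where
  cover : ∀ ξ : 𝒳.obj, ∃ (κ : Type u) (z : κ → T) (a : ∀ k, o (z k) ⟶ ξ),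
    Presieve.ofArrows (fun k => StMod.sch 𝒳 (o (z k))) (fun k => StMod.bmap 𝒳 (a k)) ∈
      Scheme.fpqcPrecoverage (StMod.sch 𝒳 ξ)
  lift : ∀ (z : T) {Y : Scheme.{u}} (g : Y ⟶ StMod.sch 𝒳 (o z)),
    ∃ (w : T) (ψ : o w ⟶ o z) (e : StMod.sch 𝒳 (o w) ≅ Y), StMod.bmap 𝒳 ψ = e.hom ≫ g

variable {o}

theorem IsDense.lifts (ho : IsDense o) (h : Lifts 𝒳) : Lifts (Ind o) where
  lift z T' g := by
    obtain ⟨w, ψ, e, he⟩ := ho.lift z g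
    exact ⟨w, hm o ψ, e, he⟩
  factor φ χ g e := by
    obtain ⟨ψ, hψ, hb⟩ := h.factor φ.hom χ.hom g e
    exact ⟨hm o ψ, InducedCategory.hom_ext hψ, hb⟩
  ext φ ψ ψ' e eb := InducedCategory.hom_ext (h.ext φ.hom (congrArg InducedCategory.Hom.hom e) eb)

variable (G : StMod.Mod (Ind o)) {ξ : 𝒳.obj}

/-- The comparison out of the inverse image along any name of a test object. -/
def cc {w z : T} (ψ : o w ⟶ o z) {Y : Scheme.{u}} (k₀ : StMod.sch 𝒳 (o w) ⟶ Y) (g : Y ⟶ StMod.sch 𝒳 (o z))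
    (e : k₀ ≫ g = StMod.bmap 𝒳 ψ) :
    (Scheme.Modules.pullback k₀).obj ((Scheme.Modules.pullback g).obj (G.obj z)) ⟶ G.obj w :=
  (pullTo k₀ g (StMod.bmap 𝒳 ψ) e (G.obj z)).hom ≫ cmp G (hm o ψ) rfl

theorem isIso_cc (hG : G.IsCartesian) {w z : T} (ψ : o w ⟶ o z) {Y : Scheme.{u}}
    (k₀ : StMod.sch 𝒳 (o w) ⟶ Y) (g : Y ⟶ StMod.sch 𝒳 (o z)) (e : k₀ ≫ g = StMod.bmap 𝒳 ψ) :
    IsIso (cc G ψ k₀ g e) := by
  have : IsIso (cmp G (hm o ψ) (rfl : _ = StMod.bmap 𝒳 ψ)) := isIso_cmp G hG _ rfl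
  unfold cc
  infer_instance

/-- The test on a candidate descent morphism. -/
def Tr {zi zj : T} (ai : o zi ⟶ ξ) (aj : o zj ⟶ ξ) {Y : Scheme.{u}} (g₁ : Y ⟶ StMod.sch 𝒳 (o zi))
    (g₂ : Y ⟶ StMod.sch 𝒳 (o zj))
    (h : (Scheme.Modules.pullback g₁).obj (G.obj zi) ⟶ (Scheme.Modules.pullback g₂).obj (G.obj zj)) : Prop :=
  ∀ (w : T) (ψ₁ : o w ⟶ o zi) (ψ₂ : o w ⟶ o zj) (k₀ : StMod.sch 𝒳 (o w) ⟶ Y)
    (e₁ : k₀ ≫ g₁ = StMod.bmap 𝒳 ψ₁) (e₂ : k₀ ≫ g₂ = StMod.bmap 𝒳 ψ₂), ψ₁ ≫ ai = ψ₂ ≫ aj →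
    (Scheme.Modules.pullback k₀).map h ≫ cc G ψ₂ k₀ g₂ e₂ = cc G ψ₁ k₀ g₁ e₁

variable {G}

/-- A test object exists. -/
theorem exists_test (hX : Lifts 𝒳) (ho : IsDense o) {zi zj : T} (ai : o zi ⟶ ξ) (aj : o zj ⟶ ξ)
    {Y : Scheme.{u}} (g₁ : Y ⟶ StMod.sch 𝒳 (o zi)) (g₂ : Y ⟶ StMod.sch 𝒳 (o zj))
    (hg : g₁ ≫ StMod.bmap 𝒳 ai = g₂ ≫ StMod.bmap 𝒳 aj) :
    ∃ (w : T) (ψ₁ : o w ⟶ o zi) (ψ₂ : o w ⟶ o zj) (e : StMod.sch 𝒳 (o w) ≅ Y),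
      e.hom ≫ g₁ = StMod.bmap 𝒳 ψ₁ ∧ e.hom ≫ g₂ = StMod.bmap 𝒳 ψ₂ ∧ ψ₁ ≫ ai = ψ₂ ≫ aj := by
  obtain ⟨w, ψ₁, e, e₁⟩ := ho.lift zi g₁
  obtain ⟨ψ₂, hψ, e₂⟩ := hX.factor aj (ψ₁ ≫ ai) (e.hom ≫ g₂) (by
    rw [StMod.bmap_comp, e₁, Category.assoc, Category.assoc, hg])
  exact ⟨w, ψ₁, ψ₂, e, e₁.symm, e₂.symm, hψ.symm⟩

theorem Tr.unique (hX : Lifts 𝒳) (ho : IsDense o) (hG : G.IsCartesian) {zi zj : T} {ai : o zi ⟶ ξ}
    {aj : o zj ⟶ ξ} {Y : Scheme.{u}} {g₁ : Y ⟶ StMod.sch 𝒳 (o zi)} {g₂ : Y ⟶ StMod.sch 𝒳 (o zj)}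
    (hg : g₁ ≫ StMod.bmap 𝒳 ai = g₂ ≫ StMod.bmap 𝒳 aj) {h h'}
    (H : Tr G ai aj g₁ g₂ h) (H' : Tr G ai aj g₁ g₂ h') : h = h' := by
  obtain ⟨w, ψ₁, ψ₂, e, e₁, e₂, hψ⟩ := exists_test hX ho ai aj g₁ g₂ hg
  have := isEquivalence_pullback e
  have := isIso_cc G hG ψ₂ e.hom g₂ e₂
  refine (Scheme.Modules.pullback e.hom).map_injective ?_
  rw [← cancel_mono (cc G ψ₂ e.hom g₂ e₂), H w ψ₁ ψ₂ e.hom e₁ e₂ hψ, H' w ψ₁ ψ₂ e.hom e₁ e₂ hψ]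

theorem cc_comp {w' w z : T} (χ : o w' ⟶ o w) (ψ : o w ⟶ o z) {Y : Scheme.{u}}
    (k₀ : StMod.sch 𝒳 (o w) ⟶ Y) (k : StMod.sch 𝒳 (o w') ⟶ Y) (ek : StMod.bmap 𝒳 χ ≫ k₀ = k)
    (g : Y ⟶ StMod.sch 𝒳 (o z)) (e : k₀ ≫ g = StMod.bmap 𝒳 ψ) (e' : k ≫ g = StMod.bmap 𝒳 (χ ≫ ψ)) :
    (pullTo (StMod.bmap 𝒳 χ) k₀ k ek _).hom ≫ cc G (χ ≫ ψ) k g e' =
      (Scheme.Modules.pullback (StMod.bmap 𝒳 χ)).map (cc G ψ k₀ g e) ≫ cmp G (hm o χ) rfl := by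
  have hc := cmp_comp G (hm o χ) (hm o ψ) (h := StMod.bmap 𝒳 χ) (g := StMod.bmap 𝒳 ψ)
    (c := StMod.bmap 𝒳 (χ ≫ ψ)) rfl rfl (StMod.bmap_comp χ ψ).symm rfl
  have ha := pullTo_assoc (StMod.bmap 𝒳 χ) k₀ k ek g (StMod.bmap 𝒳 ψ) e (StMod.bmap 𝒳 (χ ≫ ψ))
    (StMod.bmap_comp χ ψ).symm e' (G.obj z)
  simp only [cc, Functor.map_comp, Category.assoc]
  rw [← hc, ← Category.assoc, ← ha, Category.assoc]
  rfl

theorem Tr.exists_ (hX : Lifts 𝒳) (ho : IsDense o) (hG : G.IsCartesian) {zi zj : T} (ai : o zi ⟶ ξ)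
    (aj : o zj ⟶ ξ) {Y : Scheme.{u}} (g₁ : Y ⟶ StMod.sch 𝒳 (o zi)) (g₂ : Y ⟶ StMod.sch 𝒳 (o zj))
    (hg : g₁ ≫ StMod.bmap 𝒳 ai = g₂ ≫ StMod.bmap 𝒳 aj) : ∃ h, Tr G ai aj g₁ g₂ h := by
  obtain ⟨w₀, χ₁, χ₂, e, e₁, e₂, hχ⟩ := exists_test hX ho ai aj g₁ g₂ hg
  have := isEquivalence_pullback e
  have := isIso_cc G hG χ₂ e.hom g₂ e₂
  refine ⟨(Scheme.Modules.pullback e.hom).preimage (cc G χ₁ e.hom g₁ e₁ ≫ inv (cc G χ₂ e.hom g₂ e₂)), ?_⟩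
  intro w ψ₁ ψ₂ k₀ he₁ he₂ hψ
  obtain ⟨χ, hχ₁, hb⟩ := hX.factor χ₁ ψ₁ (k₀ ≫ e.inv) (by
    rw [← e₁, Category.assoc, e.inv_hom_id_assoc, he₁])
  have hχ₂ : χ ≫ χ₂ = ψ₂ := hX.ext aj (by rw [Category.assoc, ← hχ, ← Category.assoc, hχ₁, hψ]) (by
    rw [StMod.bmap_comp, hb, ← e₂, Category.assoc, e.inv_hom_id_assoc, he₂])
  subst hχ₁ hχ₂
  have ek : StMod.bmap 𝒳 χ ≫ e.hom = k₀ := by rw [hb, Category.assoc, e.inv_hom_id, Category.comp_id]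
  rw [← cancel_epi (pullTo (StMod.bmap 𝒳 χ) e.hom k₀ ek _).hom, cc_comp χ χ₁ e.hom k₀ ek g₁ e₁ he₁,
    ← Category.assoc, ← pullTo_natural, Category.assoc, cc_comp χ χ₂ e.hom k₀ ek g₂ e₂ he₂,
    ← Category.assoc, ← Functor.map_comp, Functor.map_preimage, Category.assoc, IsIso.inv_hom_id,
    Category.comp_id]

theorem Tr.self (hX : Lifts 𝒳) {zi : T} (ai : o zi ⟶ ξ) {Y : Scheme.{u}} (g : Y ⟶ StMod.sch 𝒳 (o zi)) :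
    Tr G ai ai g g (𝟙 _) := by
  intro w ψ₁ ψ₂ k₀ e₁ e₂ hψ
  obtain rfl : ψ₁ = ψ₂ := hX.ext ai hψ (e₁.symm.trans e₂)
  rw [CategoryTheory.Functor.map_id, Category.id_comp]

theorem Tr.comp (hX : Lifts 𝒳) {za zb zc : T} {aa : o za ⟶ ξ} {ab : o zb ⟶ ξ} {ac : o zc ⟶ ξ}
    {Y : Scheme.{u}} {g₁ : Y ⟶ StMod.sch 𝒳 (o za)} {g₂ : Y ⟶ StMod.sch 𝒳 (o zb)}
    {g₃ : Y ⟶ StMod.sch 𝒳 (o zc)} (hg : g₁ ≫ StMod.bmap 𝒳 aa = g₂ ≫ StMod.bmap 𝒳 ab) {h h'}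
    (H : Tr G aa ab g₁ g₂ h) (H' : Tr G ab ac g₂ g₃ h') : Tr G aa ac g₁ g₃ (h ≫ h') := by
  intro w ψ₁ ψ₃ k₀ e₁ e₃ hψ
  obtain ⟨ψ₂, hψ₂, e₂⟩ := hX.factor ab (ψ₁ ≫ aa) (k₀ ≫ g₂) (by
    rw [StMod.bmap_comp, ← e₁, Category.assoc, Category.assoc, hg])
  rw [Functor.map_comp, Category.assoc, H' w ψ₂ ψ₃ k₀ e₂.symm e₃ (hψ₂.trans hψ),
    H w ψ₁ ψ₂ k₀ e₁ e₂.symm hψ₂.symm]

theorem Tr.pull {zi zj : T} {ai : o zi ⟶ ξ} {aj : o zj ⟶ ξ} {Y Y' : Scheme.{u}} (k : Y' ⟶ Y)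
    {g₁ : Y ⟶ StMod.sch 𝒳 (o zi)} {g₂ : Y ⟶ StMod.sch 𝒳 (o zj)} {h}
    (H : Tr G ai aj g₁ g₂ h) {a₁ : Y' ⟶ StMod.sch 𝒳 (o zi)} {a₂ : Y' ⟶ StMod.sch 𝒳 (o zj)}
    (e₁ : k ≫ g₁ = a₁) (e₂ : k ≫ g₂ = a₂) :
    Tr G ai aj a₁ a₂ ((pullTo k g₁ a₁ e₁ (G.obj zi)).inv ≫ (Scheme.Modules.pullback k).map h ≫
      (pullTo k g₂ a₂ e₂ (G.obj zj)).hom) := by
  intro w ψ₁ ψ₂ k₀ he₁ he₂ hψ
  subst e₁ e₂
  have key : ∀ {z : T} (g : Y ⟶ StMod.sch 𝒳 (o z)) (ψ : o w ⟶ o z) (he : k₀ ≫ k ≫ g = StMod.bmap 𝒳 ψ),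
      (Scheme.Modules.pullback k₀).map (pullTo k g (k ≫ g) rfl (G.obj z)).hom ≫ cc G ψ k₀ (k ≫ g) he =
        (pullTo k₀ k (k₀ ≫ k) rfl _).hom ≫ cc G ψ (k₀ ≫ k) g (by rw [Category.assoc, he]) := by
    intro z g ψ he
    simp only [cc, ← Category.assoc]
    rw [pullTo_assoc k₀ k (k₀ ≫ k) rfl g (k ≫ g) rfl (StMod.bmap 𝒳 ψ) he (by rw [Category.assoc, he])]
  have hinv : ∀ {z : T} (g : Y ⟶ StMod.sch 𝒳 (o z)),
      (Scheme.Modules.pullback k₀).map (pullTo k g (k ≫ g) rfl (G.obj z)).hom ≫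
        (Scheme.Modules.pullback k₀).map (pullTo k g (k ≫ g) rfl (G.obj z)).inv = 𝟙 _ := fun g => by
    rw [← Functor.map_comp, Iso.hom_inv_id, CategoryTheory.Functor.map_id]
  rw [← cancel_epi ((Scheme.Modules.pullback k₀).map (pullTo k g₁ (k ≫ g₁) rfl (G.obj zi)).hom),
    key g₁ ψ₁ he₁, ← H w ψ₁ ψ₂ (k₀ ≫ k) (by rw [Category.assoc, he₁]) (by rw [Category.assoc, he₂]) hψ,
    Functor.map_comp, Functor.map_comp, Category.assoc, Category.assoc, reassoc_of% (hinv g₁),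
    key g₂ ψ₂ he₂, ← Category.assoc, pullTo_natural, Category.assoc]

variable {κ : Type u} {z : κ → T}

/-- The descent datum of a module on the family along a cover by members. -/
@[reducible] def datum (hX : Lifts 𝒳) (ho : IsDense o) (hG : G.IsCartesian) (a : ∀ k, o (z k) ⟶ ξ) :
    Desc.modPF.{u}.DescentData (fun k => StMod.bmap 𝒳 (a k)) where
  obj k := G.obj (z k)
  hom Y q i₁ i₂ g₁ g₂ h₁ h₂ := (Tr.exists_ hX ho hG (a i₁) (a i₂) g₁ g₂ (h₁.trans h₂.symm)).choose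
  pullHom_hom Y' Y g q q' hq i₁ i₂ g₁ g₂ hf₁ hf₂ a₁ a₂ ha₁ ha₂ := by
    dsimp only [Pseudofunctor.LocallyDiscreteOpToCat.pullHom]
    rw [mapComp'_hom_eq_pullTo g g₁ a₁ ha₁, mapComp'_inv_eq_pullTo g g₂ a₂ ha₂]
    have hga : a₁ ≫ StMod.bmap 𝒳 (a i₁) = a₂ ≫ StMod.bmap 𝒳 (a i₂) := by
      subst ha₁ ha₂
      exact (Category.assoc _ _ _).trans ((congrArg (g ≫ ·) (hf₁.trans hf₂.symm)).trans
        (Category.assoc _ _ _).symm)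
    exact Tr.unique hX ho hG hga
      (Tr.pull g (Tr.exists_ hX ho hG (a i₁) (a i₂) g₁ g₂ (hf₁.trans hf₂.symm)).choose_spec ha₁ ha₂)
      (Tr.exists_ hX ho hG (a i₁) (a i₂) a₁ a₂ hga).choose_spec
  hom_self Y q i g hg :=
    Tr.unique hX ho hG rfl (Tr.exists_ hX ho hG (a i) (a i) g g rfl).choose_spec (Tr.self hX (a i) g)
  hom_comp Y q i₁ i₂ i₃ g₁ g₂ g₃ h₁ h₂ h₃ :=
    Tr.unique hX ho hG (h₁.trans h₃.symm)
      (Tr.comp hX (h₁.trans h₂.symm) (Tr.exists_ hX ho hG (a i₁) (a i₂) g₁ g₂ (h₁.trans h₂.symm)).choose_spec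
        (Tr.exists_ hX ho hG (a i₂) (a i₃) g₂ g₃ (h₂.trans h₃.symm)).choose_spec)
      (Tr.exists_ hX ho hG (a i₁) (a i₃) g₁ g₃ (h₁.trans h₃.symm)).choose_spec

variable (hX : Lifts 𝒳) (ho : IsDense o) (hG : G.IsCartesian) (a : ∀ k, o (z k) ⟶ ξ)

theorem bc_self_apply {Y : Scheme.{u}} {X : Scheme.{u}} (N : X.Modules) (g : Y ⟶ X) (y : El N g) :
    (pullTo (𝟙 Y) g g (Category.id_comp g) N).hom.app ⊤ (pullSec (𝟙 Y) _ y) = y :=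
  bc_id_apply g y

/-- The descent morphisms on elements over a test object. -/
theorem cmp_dEl {w : T} {i j : κ} (ψ₁ : o w ⟶ o (z i)) (ψ₂ : o w ⟶ o (z j)) (hψ : ψ₁ ≫ a i = ψ₂ ≫ a j)
    (hf : StMod.bmap 𝒳 ψ₁ ≫ StMod.bmap 𝒳 (a i) = StMod.bmap 𝒳 ψ₂ ≫ StMod.bmap 𝒳 (a j))
    (y : El (dObj (datum hX ho hG a) i) (StMod.bmap 𝒳 ψ₁)) :
    (cmp G (hm o ψ₂) (rfl : _ = StMod.bmap 𝒳 ψ₂)).app ⊤ (dEl (datum hX ho hG a) (StMod.bmap 𝒳 ψ₁) (StMod.bmap 𝒳 ψ₂) hf y) =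
      (cmp G (hm o ψ₁) (rfl : _ = StMod.bmap 𝒳 ψ₁)).app ⊤ y := by
  have H := (Tr.exists_ hX ho hG (a i) (a j) (StMod.bmap 𝒳 ψ₁) (StMod.bmap 𝒳 ψ₂) hf).choose_spec
    w ψ₁ ψ₂ (𝟙 _) (Category.id_comp _) (Category.id_comp _) hψ
  have e := congr(($H).app ⊤ (pullSec (𝟙 _) _ y))
  simp only [cc, Scheme.Modules.Hom.comp_app, CategoryTheory.comp_apply] at e
  refine Eq.trans ?_ (e.trans (congrArg _ (bc_self_apply _ _ y)))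
  refine congrArg _ (Eq.trans ?_ (congrArg _ (pullSec_map (𝟙 _) _ (U := ⊤) y).symm))
  exact (bc_self_apply _ _ _).symm

end Groth.StDescent
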