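import Groth.Agent.StDescent.Cone
import Groth.Prelude.Def_StMod6

/-!
# Quasi-coherent modules on a category and on a dense family of its objects (helper34)

`isEquivalence_comapQ_ind`: inverse image along the inclusion of a dense family is an equivalence of
categories of quasi-coherent modules.
-/

set_option autoImplicit false
set_option backward.isDefEq.respectTransparency false
set_option backward.isDefEq.respectTransparency.types false

universe t w v u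

open CategoryTheory CategoryTheory.Limits AlgebraicGeometry Opposite TopologicalSpace

noncomputable section

namespace Groth.StDescent

open Groth.DescentBase
open Groth.QCohMod (res res_res res_self res_app res_smul)
open Groth.PicAux (pullSec pullSec_map)
open Groth.StModSect

variable {S : Scheme.{u}} {𝒳 : BasedCategory.{v, w} (Over S)} {T : Type t} {o : T → 𝒳.obj}

/-- The adjoint morphism on pulled back sections. -/
theorem homEquiv_symm_pullSec {X Y : Scheme.{u}} (f : Y ⟶ X) {M : X.Modules} {N : Y.Modules}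
    (θ : M ⟶ (Scheme.Modules.pushforward f).obj N) (U : X.Opens) (s : Γ(M, U)) :
    (((Scheme.Modules.pullbackPushforwardAdjunction f).homEquiv M N).symm θ).app (f ⁻¹ᵁ U) (pullSec f M s) =
      θ.app U s := by
  have h : (Scheme.Modules.pullbackPushforwardAdjunction f).unit.app M ≫
      (Scheme.Modules.pushforward f).map
        (((Scheme.Modules.pullbackPushforwardAdjunction f).homEquiv M N).symm θ) = θ :=
    ((Scheme.Modules.pullbackPushforwardAdjunction f).homEquiv_unit M N _).symm.trans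
      (((Scheme.Modules.pullbackPushforwardAdjunction f).homEquiv M N).apply_symm_apply _)
  exact congr(($h).app U s)

/-- A morphism of modules from compatible section maps. -/
def mkHom {X : Scheme.{u}} (M N : X.Modules) (t : ∀ U : X.Opens, Γ(M, U) → Γ(N, U))
    (hadd : ∀ U m m', t U (m + m') = t U m + t U m')
    (hsmul : ∀ U (r : Γ(X, U)) m, t U (r • m) = r • t U m)
    (hres : ∀ U V (h : V ≤ U) m, t V (res M h m) = res N h (t U m)) : M ⟶ N :=
  mkPushHom (𝟙 X) M N t hadd hsmul hres ≫ (Scheme.Modules.pushforwardId X).hom.app N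

/-- A cover by members, pulled back along a morphism. -/
theorem exists_pullback_cover (hX : Lifts 𝒳) (ho : IsDense o) {ξ ξ' : 𝒳.obj} {κ : Type u} {z : κ → T}
    (a : ∀ k, o (z k) ⟶ ξ) (hcov : Presieve.ofArrows (fun k => StMod.sch 𝒳 (o (z k)))
      (fun k => StMod.bmap 𝒳 (a k)) ∈ Scheme.fpqcPrecoverage (StMod.sch 𝒳 ξ)) (b : ξ' ⟶ ξ) :
    ∃ (wk : κ → T) (χ : ∀ k, o (wk k) ⟶ o (z k)) (ψ : ∀ k, o (wk k) ⟶ ξ'), (∀ k, ψ k ≫ b = χ k ≫ a k) ∧
      Presieve.ofArrows (fun k => StMod.sch 𝒳 (o (wk k))) (fun k => StMod.bmap 𝒳 (ψ k)) ∈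
        Scheme.fpqcPrecoverage (StMod.sch 𝒳 ξ') := by
  have h : ∀ k, ∃ (wk : T) (χ : o wk ⟶ o (z k)) (ψ : o wk ⟶ ξ'), ψ ≫ b = χ ≫ a k ∧
      IsPullback (StMod.bmap 𝒳 ψ) (StMod.bmap 𝒳 χ) (StMod.bmap 𝒳 b) (StMod.bmap 𝒳 (a k)) := by
    intro k
    obtain ⟨wk, χ, e', he⟩ := ho.lift (z k) (pullback.snd (StMod.bmap 𝒳 b) (StMod.bmap 𝒳 (a k)))
    obtain ⟨ψ, hψ, hb⟩ := hX.factor b (χ ≫ a k)
      (e'.hom ≫ pullback.fst (StMod.bmap 𝒳 b) (StMod.bmap 𝒳 (a k))) (by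
        rw [StMod.bmap_comp, he, Category.assoc, Category.assoc, pullback.condition])
    refine ⟨wk, χ, ψ, hψ, ?_⟩
    rw [hb, he]
    exact (IsPullback.of_hasPullback (StMod.bmap 𝒳 b) (StMod.bmap 𝒳 (a k))).of_iso e'.symm (Iso.refl _)
      (Iso.refl _) (Iso.refl _) (by simp) (by simp) (by simp) (by simp)
  choose wk χ ψ h₁ h₂ using h
  exact ⟨wk, χ, ψ, h₁, Precoverage.mem_coverings_of_isPullback _ hcov _ _ _ h₂⟩

/-- Sections agreeing along a cover agree. -/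
theorem eq_of_cover {F : StMod.Mod 𝒳} (hF : F.IsCartesian) {ξ : 𝒳.obj} {κ : Type u} {ζ : κ → 𝒳.obj}
    (a : ∀ k, ζ k ⟶ ξ) (hcov : Presieve.ofArrows (fun k => StMod.sch 𝒳 (ζ k))
      (fun k => StMod.bmap 𝒳 (a k)) ∈ Scheme.fpqcPrecoverage (StMod.sch 𝒳 ξ))
    {U : (StMod.sch 𝒳 ξ).Opens} {s t : Γ(F.obj ξ, U)}
    (h : ∀ k, mp F (a k) le_rfl s = mp F (a k) le_rfl t) : s = t := by
  have := flat_of_mem_fpqcPrecoverage hcov
  exact mp_injective a hF (fun x _ => exists_mem_range_of_fpqc hcov x) h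

/-- Sections agreeing along all members agree. -/
theorem eq_of_members (ho : IsDense o) {F : StMod.Mod 𝒳} (hF : F.IsCartesian) {ξ : 𝒳.obj}
    {U : (StMod.sch 𝒳 ξ).Opens} {s t : Γ(F.obj ξ, U)}
    (h : ∀ (w : T) (b : o w ⟶ ξ), mp F b le_rfl s = mp F b le_rfl t) : s = t := by
  obtain ⟨κ, z, a, hcov⟩ := ho.cover ξ
  exact eq_of_cover hF a hcov fun k => h (z k) (a k)

section Comap

theorem comap_ind_map (F : StMod.Mod 𝒳) {z' z : T} (φ : @Quiver.Hom (Ind o).obj _ z' z)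
    {g : StMod.sch 𝒳 (o z') ⟶ StMod.sch 𝒳 (o z)} (hg : StMod.bmap 𝒳 φ.hom = g) :
    (StMod.Mod.comap (ind o) F).map φ hg = F.map φ.hom hg := by
  rw [StMod.Mod.comap_map, StMod.castMap_rfl, StMod.Mod.map_comp_pushforwardCongr]
  rfl

variable {F F' : StMod.Mod 𝒳} (u : StMod.Mod.comap (ind o) F ⟶ StMod.Mod.comap (ind o) F')

/-- The component of a morphism of restricted modules. -/
def uApp (z : T) : F.obj (o z) ⟶ F'.obj (o z) := u.app z

theorem uApp_nat {z' z : T} (ψ : o z' ⟶ o z) {U : (StMod.sch 𝒳 (o z)).Opens}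
    {V : (StMod.sch 𝒳 (o z')).Opens} (h : V ≤ StMod.bmap 𝒳 ψ ⁻¹ᵁ U) (s : Γ(F.obj (o z), U)) :
    mp F' ψ h ((uApp u z).app U s) = (uApp u z').app V (mp F ψ h s) := by
  have e := mp_natural (StMod.Mod.comap (ind o) F) u (hm o ψ) h s
  simp only [mp_apply, comap_ind_map] at e
  exact e

variable (hX : Lifts 𝒳) (ho : IsDense o) (hF : F.IsCartesian) (hF' : F'.IsCartesian) (hF'q : F'.IsLocQCoh)
include hX ho hF' hF'q

theorem exists_extend (ξ : 𝒳.obj) (U : (StMod.sch 𝒳 ξ).Opens) (s : Γ(F.obj ξ, U)) :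
    ∃ t : Γ(F'.obj ξ, U), ∀ (w : T) (b : o w ⟶ ξ) (V : (StMod.sch 𝒳 (o w)).Opens)
      (h : V ≤ StMod.bmap 𝒳 b ⁻¹ᵁ U), mp F' b h t = (uApp u w).app V (mp F b h s) := by
  obtain ⟨κ, z, a, hcov⟩ := ho.cover ξ
  obtain ⟨t, ht⟩ := exists_mp_eq hX hF' hF'q a hcov
    (fun k => (uApp u (z k)).app _ (mp F (a k) le_rfl s)) (by
      intro k l w ψ₁ ψ₂ hψ V h₁ h₂
      obtain ⟨w₀, χ, e, he⟩ := ho.lift (z k) (StMod.bmap 𝒳 ψ₁)
      obtain ⟨γ, -, hγb⟩ := hX.factor ψ₁ χ e.hom he.symm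
      have : Flat (StMod.bmap 𝒳 γ) := by rw [hγb]; infer_instance
      refine mp_injective (κ := PUnit.{u + 1}) (fun _ => γ) hF' (fun x _ => ⟨⟨⟩, e.inv x, ?_⟩) fun _ => ?_
      · rw [hγb, ← Scheme.Hom.comp_apply, e.inv_hom_id]; rfl
      · rw [mp_mp, mp_mp, uApp_nat, uApp_nat, mp_mp, mp_mp]
        refine congrArg _ (mp_congr F ?_ _ _ s)
        rw [Category.assoc, Category.assoc, hψ])
  refine ⟨t, fun w b V h => ?_⟩
  have key : mp F' b le_rfl t = (uApp u w).app _ (mp F b le_rfl s) := by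
    obtain ⟨wk, χ, ψ, hψ, hcov'⟩ := exists_pullback_cover hX ho a hcov b
    refine eq_of_cover hF' ψ hcov' fun k => ?_
    have hle : StMod.bmap 𝒳 (ψ k) ⁻¹ᵁ StMod.bmap 𝒳 b ⁻¹ᵁ U ≤
        StMod.bmap 𝒳 (χ k) ⁻¹ᵁ StMod.bmap 𝒳 (a k) ⁻¹ᵁ U := by
      rw [← Scheme.Hom.comp_preimage, ← Scheme.Hom.comp_preimage, ← StMod.bmap_comp, ← StMod.bmap_comp, hψ]
    have e := congrArg (mp F' (χ k) hle) (ht k)
    rw [mp_mp, uApp_nat, mp_mp] at e
    rw [mp_mp, uApp_nat, mp_mp]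
    exact (mp_congr F' (hψ k) _ _ t).trans (e.trans (congrArg _ (mp_congr F (hψ k).symm _ _ s)))
  rw [← res_mp F' b le_rfl h t, key, res_app]
  exact congrArg _ (res_mp F b le_rfl h s)

/-- The extension of a morphism, on sections. -/
def extFun (ξ : 𝒳.obj) (U : (StMod.sch 𝒳 ξ).Opens) (s : Γ(F.obj ξ, U)) : Γ(F'.obj ξ, U) :=
  (exists_extend u hX ho hF' hF'q ξ U s).choose

theorem extFun_spec (ξ : 𝒳.obj) (U : (StMod.sch 𝒳 ξ).Opens) (s : Γ(F.obj ξ, U)) (w : T) (b : o w ⟶ ξ)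
    (V : (StMod.sch 𝒳 (o w)).Opens) (h : V ≤ StMod.bmap 𝒳 b ⁻¹ᵁ U) :
    mp F' b h (extFun u hX ho hF' hF'q ξ U s) = (uApp u w).app V (mp F b h s) :=
  (exists_extend u hX ho hF' hF'q ξ U s).choose_spec w b V h

theorem exists_extHom : ∃ v : F ⟶ F', ∀ z : T, v.app (o z) = uApp u z := by
  let t := extFun u hX ho hF' hF'q
  have spec := extFun_spec u hX ho hF' hF'q
  have hadd : ∀ ξ U s s', t ξ U (s + s') = t ξ U s + t ξ U s' := fun ξ U s s' =>
    eq_of_members ho hF' fun w b => by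
      rw [map_add, spec, spec, spec, map_add, map_add]
  have hsmul : ∀ ξ U (r : Γ(StMod.sch 𝒳 ξ, U)) s, t ξ U (r • s) = r • t ξ U s := fun ξ U r s =>
    eq_of_members ho hF' fun w b => by
      rw [mp_smul, spec, spec, mp_smul, Scheme.Modules.Hom.app_smul]
  have hres : ∀ ξ U V (h : V ≤ U) s, t ξ V (res (F.obj ξ) h s) = res (F'.obj ξ) h (t ξ U s) :=
    fun ξ U V h s => eq_of_members ho hF' fun w b => by rw [mp_res, spec, spec, mp_res]
  refine ⟨⟨fun ξ => mkHom (F.obj ξ) (F'.obj ξ) (t ξ) (hadd ξ) (hsmul ξ) (hres ξ), ?_⟩, fun z => ?_⟩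
  · intro ξ' ξ φ g hg
    subst hg
    ext U s
    show t ξ' _ ((F.map φ rfl).app U s) = (F'.map φ rfl).app U (t ξ U s)
    rw [← mp_self F φ s, ← mp_self F' φ (t ξ U s)]
    refine eq_of_members ho hF' fun w b => ?_
    rw [spec, mp_mp, mp_mp]
    exact (spec ξ U s w (b ≫ φ) _ _).symm
  · ext U s
    show t (o z) U s = _
    have h : U ≤ StMod.bmap 𝒳 (𝟙 (o z)) ⁻¹ᵁ U := by rw [StMod.bmap_id]; exact le_rfl
    have e := spec (o z) U s z (𝟙 _) U h
    rw [mp_id F' _ h le_rfl, mp_id F _ h le_rfl, res_self, res_self] at e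
    exact e

end Comap

theorem faithful_comapQ_ind (ho : IsDense o) : (StMod.comapQ (ind o)).Faithful where
  map_injective {F F'} v v' h := by
    refine ObjectProperty.hom_ext _ (StMod.Mod.hom_ext fun ξ => ?_)
    ext U s
    refine eq_of_members ho F'.property.1 fun w b => ?_
    rw [mp_natural F.obj v.hom, mp_natural F.obj v'.hom]
    exact congr((InducedCategory.Hom.hom $h).app w |>.app _ (mp F.obj b le_rfl s))

theorem full_comapQ_ind (hX : Lifts 𝒳) (ho : IsDense o) : (StMod.comapQ (ind o)).Full where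
  map_surjective {F F'} u := by
    obtain ⟨v, hv⟩ := exists_extHom u.hom hX ho F'.property.1 F'.property.2
    exact ⟨⟨v⟩, ObjectProperty.hom_ext _ (StMod.Mod.hom_ext fun z => hv z)⟩

section Extend

variable {G : StMod.Mod (Ind o)}

theorem Cone.θ_congr {ξ : 𝒳.obj} (C : Cone G ξ) {w : T} {b b' : o w ⟶ ξ} (e : b = b')
    {U : (StMod.sch 𝒳 ξ).Opens} {V : (StMod.sch 𝒳 (o w)).Opens} (h : V ≤ StMod.bmap 𝒳 b ⁻¹ᵁ U)
    (h' : V ≤ StMod.bmap 𝒳 b' ⁻¹ᵁ U) (s : Γ(C.M, U)) :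
    res (gObj G w) h (show Γ(gObj G w, StMod.bmap 𝒳 b ⁻¹ᵁ U) from (C.θ w b).app U s) =
      res (gObj G w) h' (show Γ(gObj G w, StMod.bmap 𝒳 b' ⁻¹ᵁ U) from (C.θ w b').app U s) := by
  subst e; rfl

/-- The value of the comparison on a section. -/
abbrev Cone.val {ξ : 𝒳.obj} (C : Cone G ξ) (w : T) (b : o w ⟶ ξ) {U : (StMod.sch 𝒳 ξ).Opens} (s : Γ(C.M, U)) :
    Γ(gObj G w, StMod.bmap 𝒳 b ⁻¹ᵁ U) := (C.θ w b).app U s

theorem Cone.res_val {ξ : 𝒳.obj} (C : Cone G ξ) (w : T) (b : o w ⟶ ξ) {U U' : (StMod.sch 𝒳 ξ).Opens}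
    (hU : U' ≤ U) (s : Γ(C.M, U)) :
    res (gObj G w) ((StMod.bmap 𝒳 b).preimage_mono hU) (C.val w b s) = C.val w b (res C.M hU s) :=
  res_app (C.θ w b) hU s

variable (C : ∀ ξ, Cone G ξ) {ξ' ξ : 𝒳.obj} (φ : ξ' ⟶ ξ) {g : StMod.sch 𝒳 ξ' ⟶ StMod.sch 𝒳 ξ}
  (hg : StMod.bmap 𝒳 φ = g)

include hg in
theorem le_of_bmap_eq {w : T} (b : o w ⟶ ξ') (U : (StMod.sch 𝒳 ξ).Opens) :
    StMod.bmap 𝒳 b ⁻¹ᵁ g ⁻¹ᵁ U ≤ StMod.bmap 𝒳 (b ≫ φ) ⁻¹ᵁ U := by
  rw [StMod.bmap_comp, Scheme.Hom.comp_preimage, hg]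

theorem exists_mapSec (U : (StMod.sch 𝒳 ξ).Opens) (s : Γ((C ξ).M, U)) :
    ∃ s' : Γ((C ξ').M, g ⁻¹ᵁ U), ∀ (w : T) (b : o w ⟶ ξ'),
      (C ξ').val w b s' = res (gObj G w) (le_of_bmap_eq φ hg b U) ((C ξ).val w (b ≫ φ) s) := by
  refine (C ξ').glue (g ⁻¹ᵁ U) (fun w b => res (gObj G w) (le_of_bmap_eq φ hg b U) ((C ξ).val w (b ≫ φ) s)) ?_
  intro w w' ψ b b' e V h h'
  rw [imp_res, res_res]
  exact (C ξ).nat w w' ψ (b ≫ φ) (b' ≫ φ) (by rw [← Category.assoc, e]) U V _ _ s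

/-- The comparison maps of the extension, on sections. -/
def mapSec (U : (StMod.sch 𝒳 ξ).Opens) (s : Γ((C ξ).M, U)) : Γ((C ξ').M, g ⁻¹ᵁ U) :=
  (exists_mapSec C φ hg U s).choose

theorem mapSec_spec (U : (StMod.sch 𝒳 ξ).Opens) (s : Γ((C ξ).M, U)) (w : T) (b : o w ⟶ ξ') :
    (C ξ').val w b (mapSec C φ hg U s) =
      res (gObj G w) (le_of_bmap_eq φ hg b U) ((C ξ).val w (b ≫ φ) s) :=
  (exists_mapSec C φ hg U s).choose_spec w b

/-- The comparison maps of the extension. -/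
def extMap : (C ξ).M ⟶ (Scheme.Modules.pushforward g).obj (C ξ').M :=
  mkPushHom g (C ξ).M (C ξ').M (mapSec C φ hg)
    (fun U s s' => (C ξ').ext _ _ _ fun w b => by
      refine (mapSec_spec C φ hg U (s + s') w b).trans ?_
      refine Eq.trans ?_ (map_add ((C ξ').θ w b |>.app (g ⁻¹ᵁ U)).hom _ _).symm
      refine Eq.trans ?_ (congrArg₂ (· + ·) (mapSec_spec C φ hg U s w b) (mapSec_spec C φ hg U s' w b)).symm
      exact (congrArg _ (map_add ((C ξ).θ w (b ≫ φ) |>.app U).hom s s')).trans (map_add _ _ _))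
    (fun U r s => (C ξ').ext _ _ _ fun w b => by
      refine (mapSec_spec C φ hg U (r • s) w b).trans ?_
      refine Eq.trans ?_ (Scheme.Modules.Hom.app_smul ((C ξ').θ w b) (g.app U r) _).symm
      refine Eq.trans (congrArg _ (Scheme.Modules.Hom.app_smul ((C ξ).θ w (b ≫ φ)) r s)) ?_
      refine (res_smul (gObj G w) (le_of_bmap_eq φ hg b U) ((StMod.bmap 𝒳 (b ≫ φ)).app U r) _).trans ?_
      refine congrArg₂ (fun x y => x • y) ?_ (mapSec_spec C φ hg U s w b).symm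
      subst hg
      show _ = ((StMod.bmap 𝒳 φ).app U ≫ (StMod.bmap 𝒳 b).app _) r
      show ((StMod.bmap 𝒳 (b ≫ φ)).app U ≫ (StMod.sch 𝒳 (o w)).presheaf.map _) r = _
      rw [Scheme.Hom.app_eq_appLE, Scheme.Hom.app_eq_appLE, Scheme.Hom.app_eq_appLE,
        Scheme.Hom.appLE_map, Scheme.Hom.appLE_comp_appLE]
      simp only [StMod.bmap_comp])
    (fun U V h s => (C ξ').ext _ _ _ fun w b => by
      refine (mapSec_spec C φ hg V _ w b).trans ?_
      refine Eq.trans ?_ ((C ξ').res_val w b (g.preimage_mono h) _)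
      rw [mapSec_spec, ← (C ξ).res_val w (b ≫ φ) h s, res_res, res_res])

theorem extMap_apply (U : (StMod.sch 𝒳 ξ).Opens) (s : Γ((C ξ).M, U)) :
    (extMap C φ hg).app U s = mapSec C φ hg U s := rfl

theorem mapSec_comp {ξ₂ ξ₁ ξ₀ : 𝒳.obj} (ψ : ξ₂ ⟶ ξ₁) (φ : ξ₁ ⟶ ξ₀) {h : StMod.sch 𝒳 ξ₂ ⟶ StMod.sch 𝒳 ξ₁}
    {g : StMod.sch 𝒳 ξ₁ ⟶ StMod.sch 𝒳 ξ₀} (hh : StMod.bmap 𝒳 ψ = h) (hg : StMod.bmap 𝒳 φ = g)
    (hc : StMod.bmap 𝒳 (ψ ≫ φ) = h ≫ g) (U : (StMod.sch 𝒳 ξ₀).Opens) (s : Γ((C ξ₀).M, U)) :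
    mapSec C (ψ ≫ φ) hc U s = mapSec C ψ hh (g ⁻¹ᵁ U) (mapSec C φ hg U s) := by
  refine (C ξ₂).ext ((h ≫ g) ⁻¹ᵁ U) _ _ fun w b => ?_
  refine (mapSec_spec C (ψ ≫ φ) hc U s w b).trans
    (Eq.trans ?_ (mapSec_spec C ψ hh (g ⁻¹ᵁ U) (mapSec C φ hg U s) w b).symm)
  rw [mapSec_spec C φ hg U s w (b ≫ ψ)]
  refine Eq.trans ?_ (res_res (gObj G w) _ _ _).symm
  exact (C ξ₀).θ_congr (Category.assoc b ψ φ).symm _ _ s

/-- The extension of a module on the family. -/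
def extMod : StMod.Mod 𝒳 where
  obj ξ := (C ξ).M
  map φ _ hg := extMap C φ hg
  map_id ξ := by
    ext U s
    refine (C ξ).ext U _ s fun w b => ?_
    show (C ξ).val w b (mapSec C (𝟙 ξ) (StMod.bmap_id ξ) U s) = _
    rw [mapSec_spec]
    exact ((C ξ).θ_congr (Category.comp_id b) _ le_rfl s).trans (res_self _ _)
  map_comp {ξ₂ ξ₁ ξ₀} ψ φ {h g} hh hg := by
    ext U s
    exact mapSec_comp C ψ φ hh hg (by rw [StMod.bmap_comp, hh, hg]) U s

theorem extMod_isCartesian (hX : Lifts 𝒳) (ho : IsDense o) (hG' : G.IsLocQCoh) :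
    (extMod C).IsCartesian := by
  intro ξ' ξ φ g hg
  obtain ⟨κ, z, a, hcov⟩ := ho.cover ξ'
  let m := ((Scheme.Modules.pullbackPushforwardAdjunction g).homEquiv _ _).symm ((extMod C).map φ hg)
  show IsIso m
  have := (C ξ).qc
  refine exists_cone.isIso_of_pullback.{t, w, v, u} hcov (Groth.QCohMod.isQCoh_pullback_obj g ((C ξ).M))
    (C ξ').qc m fun k => ?_
  let p := StMod.bmap 𝒳 (a k)
  let θ₁ := ((Scheme.Modules.pullbackPushforwardAdjunction p).homEquiv (C ξ').M (gObj G (z k))).symm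
    ((C ξ').θ (z k) (a k))
  let θ₀ := ((Scheme.Modules.pullbackPushforwardAdjunction (StMod.bmap 𝒳 (a k ≫ φ))).homEquiv
    (C ξ).M (gObj G (z k))).symm ((C ξ).θ (z k) (a k ≫ φ))
  have e : p ≫ g = StMod.bmap 𝒳 (a k ≫ φ) := by rw [StMod.bmap_comp, hg]
  have hcomp : (pullTo p g _ e (C ξ).M).hom ≫ θ₀ = (Scheme.Modules.pullback p).map m ≫ θ₁ := by
    refine pullback_hom_ext₂ _ _ fun U s => ?_
    simp only [Scheme.Modules.Hom.comp_app, CategoryTheory.comp_apply]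
    refine Eq.trans (congrArg _ (pullTo_pullSec _ _ _ _ _ s)) ?_
    rw [← res_app]
    refine Eq.trans (congrArg _ (homEquiv_symm_pullSec _ _ U s)) ?_
    refine Eq.trans ?_ (congrArg (θ₁.app _) (pullSec_map _ _ _)).symm
    refine Eq.trans ?_ (congrArg (fun y => θ₁.app _ (pullSec _ _ y)) (homEquiv_symm_pullSec g _ U s)).symm
    refine Eq.trans ?_ (homEquiv_symm_pullSec p _ _ _).symm
    exact (mapSec_spec C φ hg U s (z k) (a k)).symm
  have h1 : IsIso θ₁ := (C ξ').bij (z k) (a k)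
  have h0 : IsIso θ₀ := (C ξ).bij (z k) (a k ≫ φ)
  have : IsIso ((Scheme.Modules.pullback p).map m ≫ θ₁) := by rw [← hcomp]; infer_instance
  exact IsIso.of_isIso_comp_right _ θ₁

theorem extMod_isLocQCoh : (extMod C).IsLocQCoh := fun ξ => (C ξ).qc

theorem le_bmap_id (z : T) (U : (StMod.sch 𝒳 (o z)).Opens) : U ≤ StMod.bmap 𝒳 (𝟙 (o z)) ⁻¹ᵁ U := by
  rw [StMod.bmap_id]; exact le_rfl

/-- The restriction of the extension is the module one started with. -/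
def resHom (z : T) : (C (o z)).M ⟶ gObj G z :=
  mkHom (C (o z)).M (gObj G z) (fun U s => res (gObj G z) (le_bmap_id z U) ((C (o z)).val z (𝟙 _) s))
    (fun U s s' => (congrArg _ (map_add ((C (o z)).θ z (𝟙 _) |>.app U).hom s s')).trans (map_add _ _ _))
    (fun U r s => by
      refine Eq.trans (congrArg _ (Scheme.Modules.Hom.app_smul ((C (o z)).θ z (𝟙 _)) r s)) ?_
      refine (res_smul (gObj G z) (le_bmap_id z U) ((StMod.bmap 𝒳 (𝟙 (o z))).app U r) _).trans ?_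
      refine congrArg (fun x => x • _) ?_
      show ((StMod.bmap 𝒳 (𝟙 (o z))).app U ≫ (StMod.sch 𝒳 (o z)).presheaf.map _) r = _
      rw [Scheme.Hom.app_eq_appLE, Scheme.Hom.appLE_map]
      simp only [StMod.bmap_id]
      simp [Scheme.Hom.appLE]
      erw [CategoryTheory.Functor.map_id]; rfl)
    (fun U V h s => by rw [← (C (o z)).res_val, res_res, res_res])

theorem resHom_val (z w : T) (b : o w ⟶ o z) {U : (StMod.sch 𝒳 (o z)).Opens} (s : Γ((C (o z)).M, U)) :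
    imp G b le_rfl ((resHom C z).app U s) = (C (o z)).val w b s := by
  show imp G b le_rfl (res (gObj G z) (le_bmap_id z U) ((C (o z)).val z (𝟙 _) s)) = _
  rw [imp_res]
  exact ((C (o z)).nat z w b (𝟙 _) b (Category.comp_id _) U _ _ le_rfl s).trans (res_self _ _)

instance isIso_resHom (z : T) : IsIso (resHom C z) := by
  refine Scheme.Modules.Hom.isIso_iff_isIso_app.2 fun U => (ConcreteCategory.isIso_iff_bijective _).2 ⟨?_, ?_⟩
  · intro s s' h
    refine (C (o z)).ext U s s' fun w b => ?_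
    exact (resHom_val C z w b s).symm.trans ((congrArg (imp G b le_rfl) h).trans (resHom_val C z w b s'))
  · intro y
    obtain ⟨s, hs⟩ := (C (o z)).glue U (fun w b => imp G b le_rfl y) (by
      intro w w' ψ b b' e V h h'
      rw [imp_imp, res_imp]
      exact imp_congr G e _ _ y)
    refine ⟨s, ?_⟩
    show res (gObj G z) (le_bmap_id z U) ((C (o z)).val z (𝟙 _) s) = y
    rw [show (C (o z)).val z (𝟙 _) s = imp G (𝟙 _) le_rfl y from hs z (𝟙 _), res_imp,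
      imp_id G z _ le_rfl, res_self]

/-- The restriction of the extension is isomorphic to the module. -/
def comapExtIso : StMod.Mod.comap (ind o) (extMod C) ≅ G :=
  StMod.Mod.isoMk (fun z => asIso (resHom C z)) fun z' z φ g hg => by
    rw [comap_ind_map (extMod C) φ hg]
    subst hg
    ext U s
    show (resHom C z').app _ (mapSec C φ.hom rfl U s) =
      (show Γ(gObj G z', StMod.bmap 𝒳 φ.hom ⁻¹ᵁ U) from (G.map φ rfl).app U ((resHom C z).app U s))
    refine Eq.trans ?_ ((resHom_val C z z' φ.hom s).symm.trans (imp_self G φ.hom _))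
    show res (gObj G z') (le_bmap_id z' _) ((C (o z')).val z' (𝟙 _) (mapSec C φ.hom rfl U s)) = _
    rw [mapSec_spec, res_res]
    exact ((C (o z)).θ_congr (Category.id_comp _) _ le_rfl s).trans (res_self _ _)

end Extend

theorem essSurj_comapQ_ind (hX : Lifts 𝒳) (ho : IsDense o) : (StMod.comapQ (ind o)).EssSurj where
  mem_essImage G := by
    let C := fun ξ => (exists_cone hX ho G.property.1 G.property.2 ξ).some
    exact ⟨⟨extMod C, extMod_isCartesian C hX ho G.property.2, extMod_isLocQCoh C⟩,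
      ⟨(StMod.isQCoh (Ind o)).isoMk (comapExtIso C)⟩⟩

/-- Quasi-coherent modules on a category are those on any dense family of its objects. -/
theorem isEquivalence_comapQ_ind (hX : Lifts 𝒳) (ho : IsDense o) : (StMod.comapQ (ind o)).IsEquivalence where
  faithful := faithful_comapQ_ind ho
  full := full_comapQ_ind hX ho
  essSurj := essSurj_comapQ_ind hX ho

end Groth.StDescent
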