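import Groth.Agent.StDescent.Equiv
import Groth.Agent.AlgSpBasic.Topology
import Groth.Prelude.Def_StGerb

/-!
# Quasi-coherent modules along a gerbe (helper34)

`π : E ⥤ 𝒴.obj` is a gerbe (objects and morphisms of `𝒴` come from `E` fppf locally).
-/

set_option autoImplicit false
set_option backward.isDefEq.respectTransparency false
set_option backward.isDefEq.respectTransparency.types false

universe t w v v' w' u

open CategoryTheory CategoryTheory.Limits AlgebraicGeometry Opposite TopologicalSpace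

noncomputable section

namespace Groth.StDescent

open Groth.DescentBase
open Groth.QCohMod (res res_res res_self res_app res_smul)
open Groth.PicAux (pullSec pullSec_map)
open Groth.StModSect Groth.StkBase

variable {S : Scheme.{u}}

/-- A covering sieve of the fppf site contains an fppf cover indexed in the small universe. -/
theorem exists_small_cover {X : Over S} {R : Sieve X} (hR : R ∈ QuotSh.J Scheme.fppfPrecoverage S X) :
    ∃ (κ : Type u) (V : κ → Over S) (f : ∀ k, V k ⟶ X), (∀ k, R (f k)) ∧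
      Presieve.ofArrows (fun k => (V k).left) (fun k => (f k).left) ∈ Scheme.fppfPrecoverage X.left := by
  obtain ⟨C, hC, h⟩ := Groth.AlgSpBasic.exists_cover_of_mem hR
  obtain ⟨𝒰, rfl⟩ := Presieve.exists_eq_preZeroHypercover C
  obtain ⟨hsurj, hP⟩ := (Scheme.ofArrows_mem_precoverage_iff _).1 hC
  choose i hi using hsurj
  exact ⟨X.left, fun x => Over.mk (𝒰.f (i x) ≫ X.hom), fun x => Over.homMk (𝒰.f (i x)),
    fun x => h _ ⟨i x⟩, (Scheme.ofArrows_mem_precoverage_iff _).2 ⟨fun x => ⟨x, hi x⟩, fun x => hP (i x)⟩⟩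

/-- A cover renamed along isomorphisms of the sources. -/
theorem mem_fpqc_of_iso {Y : Scheme.{u}} {κ : Type u} {X X' : κ → Scheme.{u}} {f : ∀ k, X k ⟶ Y}
    (hf : Presieve.ofArrows X f ∈ Scheme.fppfPrecoverage Y) (e : ∀ k, X' k ≅ X k) (f' : ∀ k, X' k ⟶ Y)
    (he : ∀ k, f' k = (e k).hom ≫ f k) : Presieve.ofArrows X' f' ∈ Scheme.fpqcPrecoverage Y := by
  refine Scheme.fppfPrecoverage_le_fpqcPrecoverage Y ?_
  obtain ⟨hsurj, hP⟩ := (Scheme.ofArrows_mem_precoverage_iff _).1 hf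
  refine (Scheme.ofArrows_mem_precoverage_iff _).2 ⟨fun x => ?_, fun k => ?_⟩
  · obtain ⟨k, y, hy⟩ := hsurj x
    refine ⟨k, (e k).inv y, ?_⟩
    rw [he, ← Scheme.Hom.comp_apply, (e k).inv_hom_id_assoc]
    exact hy
  · rw [he]
    have h1 : Flat (f k) := (hP k).1
    have h2 : LocallyOfFinitePresentation (f k) := (hP k).2
    exact ⟨inferInstanceAs (Flat ((e k).hom ≫ f k)),
      inferInstanceAs (LocallyOfFinitePresentation ((e k).hom ≫ f k))⟩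

/-- A morphism lying over another. -/
theorem exists_iso_of_isHomLift {𝒵 : BasedCategory.{v', w'} (Over S)} {V W : Over S} {a b : 𝒵.obj} (f : V ⟶ W)
    (φ : a ⟶ b) (h : 𝒵.p.IsHomLift f φ) (hb : 𝒵.p.obj b = W) :
    ∃ e : StMod.sch 𝒵 a ≅ V.left, StMod.bmap 𝒵 φ ≫ eqToHom (congrArg Comma.left hb) = e.hom ≫ f.left := by
  have ha := IsHomLift.domain_eq 𝒵.p f φ
  refine ⟨eqToIso (congrArg Comma.left ha), ?_⟩
  have := IsHomLift.fac' 𝒵.p f φ
  show (𝒵.p.map φ).left ≫ _ = _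
  rw [this]
  simp [Over.comp_left, Over.eqToHom_left]

/-- The adjoint of a comparison map is an isomorphism when it is one after an fpqc cover. -/
theorem isIso_adjoint_of_cover {κ : Type u} {Y X : Scheme.{u}} {g : Y ⟶ X} {M : X.Modules} {N : Y.Modules}
    (m : M ⟶ (Scheme.Modules.pushforward g).obj N) {Z : κ → Scheme.{u}} {p : ∀ k, Z k ⟶ Y}
    (hcov : Presieve.ofArrows Z p ∈ Scheme.fpqcPrecoverage Y) (hM : M.IsQuasicoherent) (hN : N.IsQuasicoherent)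
    {L : ∀ k, (Z k).Modules} (θ₁ : ∀ k, N ⟶ (Scheme.Modules.pushforward (p k)).obj (L k))
    (θ₀ : ∀ k, M ⟶ (Scheme.Modules.pushforward (p k ≫ g)).obj (L k))
    (h₁ : ∀ k, IsIso (((Scheme.Modules.pullbackPushforwardAdjunction (p k)).homEquiv _ _).symm (θ₁ k)))
    (h₀ : ∀ k, IsIso (((Scheme.Modules.pullbackPushforwardAdjunction (p k ≫ g)).homEquiv _ _).symm (θ₀ k)))
    (hc : ∀ k (U : X.Opens) (s : Γ(M, U)),
      (show Γ(L k, p k ⁻¹ᵁ g ⁻¹ᵁ U) from (θ₁ k).app (g ⁻¹ᵁ U) (m.app U s)) = (θ₀ k).app U s) :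
    IsIso (((Scheme.Modules.pullbackPushforwardAdjunction g).homEquiv M N).symm m) := by
  have := hM
  refine exists_cone.isIso_of_pullback.{0, 0, 0, u} hcov (Groth.QCohMod.isQCoh_pullback_obj g M) hN _ fun k => ?_
  let m' := ((Scheme.Modules.pullbackPushforwardAdjunction g).homEquiv M N).symm m
  let t₁ := ((Scheme.Modules.pullbackPushforwardAdjunction (p k)).homEquiv N (L k)).symm (θ₁ k)
  let t₀ := ((Scheme.Modules.pullbackPushforwardAdjunction (p k ≫ g)).homEquiv M (L k)).symm (θ₀ k)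
  have hcomp : (pullTo (p k) g (p k ≫ g) rfl M).hom ≫ t₀ = (Scheme.Modules.pullback (p k)).map m' ≫ t₁ := by
    refine pullback_hom_ext₂ _ _ fun U s => ?_
    simp only [Scheme.Modules.Hom.comp_app, CategoryTheory.comp_apply]
    refine Eq.trans (congrArg _ (pullTo_pullSec _ _ _ _ _ s)) ?_
    rw [← res_app]
    refine Eq.trans (congrArg _ (homEquiv_symm_pullSec _ _ U s)) ?_
    refine Eq.trans ?_ (congrArg (t₁.app _) (pullSec_map _ _ _)).symm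
    refine Eq.trans ?_ (congrArg (fun y => t₁.app _ (pullSec _ _ y)) (homEquiv_symm_pullSec g _ U s)).symm
    refine Eq.trans ?_ (homEquiv_symm_pullSec (p k) _ _ _).symm
    exact (res_self _ _).trans (hc k U s).symm
  have : IsIso t₁ := h₁ k
  have : IsIso t₀ := h₀ k
  have : IsIso ((Scheme.Modules.pullback (p k)).map m' ≫ t₁) := by rw [← hcomp]; infer_instance
  exact IsIso.of_isIso_comp_right _ t₁

variable {𝒴 : BasedCategory.{v', w'} (Over S)} {E : Type w} [Category.{v} E] (π : E ⥤ 𝒴.obj)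

/-- The source of the gerbe, over `(Sch/S)` through it. -/
abbrev Src : BasedCategory.{v, w} (Over S) := BasedCategory.ofFunctor (π ⋙ 𝒴.p)

/-- The gerbe, as a functor over `(Sch/S)`. -/
abbrev toBase : Src π ⥤ᵇ 𝒴 where
  toFunctor := π
  w := rfl

/-- Objects and morphisms of the target come from the source locally. -/
abbrev IsGerbeQ : Prop := Gerb.IsGerbeOver (QuotSh.J Scheme.fppfPrecoverage S) (toBase π)

variable {π}
variable (hE : Lifts (Src π))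

include hE in
theorem isDense_src (hg : IsGerbeQ π) : IsDense (𝒳 := 𝒴) π.obj where
  cover y := by
    obtain ⟨R, hR, h⟩ := hg.1 y
    obtain ⟨κ, V, f, hf, hcov⟩ := exists_small_cover hR
    choose x g hl using fun k => h (f k) (hf k)
    choose e he using fun k => exists_iso_of_isHomLift (f k) (g k) (hl k) rfl
    refine ⟨κ, x, g, mem_fpqc_of_iso hcov e _ fun k => ?_⟩
    exact (Category.comp_id _).symm.trans (he k)
  lift z Y g := by
    obtain ⟨w, ψ, e, h⟩ := hE.lift z g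
    exact ⟨w, π.map ψ, e, h⟩

theorem exists_loc_lift (hE' : FibCat.IsFibGrpd (π ⋙ 𝒴.p)) (hY : FibCat.IsFibGrpd 𝒴.p) (hg : IsGerbeQ π)
    {z' z : E} (b : π.obj z' ⟶ π.obj z) :
    ∃ (κ : Type u) (x : κ → E) (φ : ∀ k, x k ⟶ z') (ψ : ∀ k, x k ⟶ z),
      (∀ k, π.map (φ k) ≫ b = π.map (ψ k)) ∧
      Presieve.ofArrows (fun k => StMod.sch (Src π) (x k)) (fun k => StMod.bmap (Src π) (φ k)) ∈
        Scheme.fpqcPrecoverage (StMod.sch (Src π) z') := by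
  obtain ⟨ζ, l, h, hl⟩ := exists_lift' hE' (x := z) (V := 𝒴.p.obj (π.obj z')) (𝒴.p.map b)
  obtain ⟨b₀, ⟨hb₀, hb⟩, -⟩ := factor_unique hY (π.map l) b (eqToHom h.symm) (by
    rw [show 𝒴.p.map (π.map l) = (π ⋙ 𝒴.p).map l from rfl, hl]
    rw [← Category.assoc]
    erw [eqToHom_trans, eqToHom_refl, Category.id_comp]
    )
  have hv : IsVert 𝒴.p b₀ := ⟨h.symm, hb₀⟩
  obtain ⟨R, hR, hh⟩ := hg.2 z' ζ b₀ hv.isHomLift_dom
  obtain ⟨κ, V, f, hf, hcov⟩ := exists_small_cover hR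
  choose x φ ψ hφ hψ hfac using fun k => hh (f k) (hf k)
  choose e he using fun k => exists_iso_of_isHomLift (f k) (φ k) (hφ k) rfl
  refine ⟨κ, x, φ, fun k => ψ k ≫ l, fun k => ?_,
    mem_fpqc_of_iso hcov e _ fun k => (Category.comp_id _).symm.trans (he k)⟩
  rw [π.map_comp, ← hfac k, ← hb, Category.assoc]

omit hE in
/-- The inclusion of the source in the family it spans. -/
abbrev toInd : Src π ⥤ᵇ Ind (𝒳 := 𝒴) π.obj where
  toFunctor := { obj := fun z => z, map := fun φ => hm (𝒳 := 𝒴) π.obj (π.map φ)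
                 map_id := fun z => InducedCategory.hom_ext (π.map_id z)
                 map_comp := fun φ ψ => InducedCategory.hom_ext (π.map_comp φ ψ) }
  w := rfl

omit hE in
theorem comap_toBase_map (F : StMod.Mod 𝒴) {z' z : E} (φ : z' ⟶ z)
    {g : StMod.sch (Src π) z' ⟶ StMod.sch (Src π) z} (hg : StMod.bmap (Src π) φ = g) :
    (StMod.Mod.comap (toBase π) F).map φ hg = F.map (π.map φ) hg := by
  rw [StMod.Mod.comap_map, StMod.castMap_rfl, StMod.Mod.map_comp_pushforwardCongr]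

omit hE in
theorem comap_toInd_map (G : StMod.Mod (Ind (𝒳 := 𝒴) π.obj)) {z' z : E} (φ : z' ⟶ z)
    {g : StMod.sch (Src π) z' ⟶ StMod.sch (Src π) z} (hg : StMod.bmap (Src π) φ = g) :
    (StMod.Mod.comap toInd G).map φ hg = G.map (hm (𝒳 := 𝒴) π.obj (π.map φ)) hg := by
  rw [StMod.Mod.comap_map, StMod.castMap_rfl, StMod.Mod.map_comp_pushforwardCongr]

/-- Restriction of sections only depends on the image in the target. -/
def Indep (F : StMod.Mod (Src π)) : Prop :=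
  ∀ ⦃x z : E⦄ (ψ ψ' : x ⟶ z), π.map ψ = π.map ψ' → ∀ (U : (StMod.sch (Src π) z).Opens)
    (V : (StMod.sch (Src π) x).Opens) (h : V ≤ StMod.bmap (Src π) ψ ⁻¹ᵁ U)
    (h' : V ≤ StMod.bmap (Src π) ψ' ⁻¹ᵁ U) (s : Γ(F.obj z, U)), mp F ψ h s = mp F ψ' h' s

section Descend

variable (hE' : FibCat.IsFibGrpd (π ⋙ 𝒴.p)) (hY : FibCat.IsFibGrpd 𝒴.p) (hg : IsGerbeQ π)
  {F : StMod.Mod (Src π)} (hF : F.IsCartesian) (hF' : F.IsLocQCoh) (hI : Indep F)

omit hE in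
theorem isDense_id (h : Lifts (Src π)) : IsDense (𝒳 := Src π) (fun z : E => z) where
  cover ξ := ⟨PUnit, fun _ => ξ, fun _ => 𝟙 ξ,
    Scheme.fppfPrecoverage_le_fpqcPrecoverage _ ((Scheme.ofArrows_mem_precoverage_iff _).2
      ⟨fun x => ⟨⟨⟩, x, by rw [StMod.bmap_id]; rfl⟩, fun _ => by
        rw [StMod.bmap_id]
        exact ⟨inferInstanceAs (Flat (𝟙 _)), inferInstanceAs (LocallyOfFinitePresentation (𝟙 _))⟩⟩)⟩
  lift z _ g := h.lift z g

omit hE in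
include hE' hY hg hF hF' hI in
theorem exists_sec {z' z : E} (b : π.obj z' ⟶ π.obj z) {g : StMod.sch (Src π) z' ⟶ StMod.sch (Src π) z}
    (hb : StMod.bmap 𝒴 b = g) (U : (StMod.sch (Src π) z).Opens) (s : Γ(F.obj z, U)) :
    ∃ s' : Γ(F.obj z', g ⁻¹ᵁ U), ∀ (x : E) (φ : x ⟶ z') (ψ : x ⟶ z), π.map φ ≫ b = π.map ψ →
      ∀ (V : (StMod.sch (Src π) x).Opens) (h : V ≤ StMod.bmap (Src π) φ ⁻¹ᵁ g ⁻¹ᵁ U)
        (h' : V ≤ StMod.bmap (Src π) ψ ⁻¹ᵁ U), mp F φ h s' = mp F ψ h' s := by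
  have hL : Lifts (Src π) := lifts_of_isFibGrpd hE'
  obtain ⟨κ, x, φ, ψ, hφψ, hcov⟩ := exists_loc_lift hE' hY hg b
  have hle : ∀ k, StMod.bmap (Src π) (φ k) ⁻¹ᵁ g ⁻¹ᵁ U ≤ StMod.bmap (Src π) (ψ k) ⁻¹ᵁ U := fun k => by
    show StMod.bmap 𝒴 (π.map (φ k)) ⁻¹ᵁ g ⁻¹ᵁ U ≤ StMod.bmap 𝒴 (π.map (ψ k)) ⁻¹ᵁ U
    rw [← hφψ, StMod.bmap_comp, Scheme.Hom.comp_preimage, hb]
  obtain ⟨t, ht⟩ := exists_mp_eq hL hF hF' φ hcov (fun k => mp F (ψ k) (hle k) s) (by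
    intro k l w ψ₁ ψ₂ h V h₁ h₂
    rw [mp_mp, mp_mp]
    refine hI _ _ ?_ _ _ _ _ _
    rw [π.map_comp, π.map_comp, ← hφψ, ← hφψ, ← Category.assoc, ← Category.assoc, ← π.map_comp, ← π.map_comp, h])
  refine ⟨t, fun y χ θ h V hV hV' => ?_⟩
  have key : ∀ (hV₀ : StMod.bmap (Src π) χ ⁻¹ᵁ g ⁻¹ᵁ U ≤ StMod.bmap (Src π) θ ⁻¹ᵁ U),
      mp F χ le_rfl t = mp F θ hV₀ s := by
    intro hV₀
    obtain ⟨wk, c, γ, hc, hcov'⟩ := exists_pullback_cover hL (isDense_id hL) φ hcov χ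
    refine eq_of_cover hF γ hcov' fun k => ?_
    have hle' : StMod.bmap (Src π) (γ k) ⁻¹ᵁ StMod.bmap (Src π) χ ⁻¹ᵁ g ⁻¹ᵁ U ≤
        StMod.bmap (Src π) (c k) ⁻¹ᵁ StMod.bmap (Src π) (φ k) ⁻¹ᵁ g ⁻¹ᵁ U := by
      rw [← Scheme.Hom.comp_preimage (StMod.bmap (Src π) (γ k)),
        ← Scheme.Hom.comp_preimage (StMod.bmap (Src π) (c k)), ← StMod.bmap_comp, ← StMod.bmap_comp, hc]
    have e := congrArg (mp F (c k) hle') (ht k)
    rw [mp_mp, mp_mp] at e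
    rw [mp_mp, mp_mp]
    refine (mp_congr F (hc k) _ _ t).trans (e.trans ?_)
    refine hI _ _ ?_ _ _ _ _ _
    rw [π.map_comp, π.map_comp, ← h, ← hφψ, ← Category.assoc, ← Category.assoc, ← π.map_comp, ← π.map_comp, hc]
  have hfull : StMod.bmap (Src π) χ ⁻¹ᵁ g ⁻¹ᵁ U ≤ StMod.bmap (Src π) θ ⁻¹ᵁ U := by
    show StMod.bmap 𝒴 (π.map χ) ⁻¹ᵁ g ⁻¹ᵁ U ≤ StMod.bmap 𝒴 (π.map θ) ⁻¹ᵁ U
    rw [← h, StMod.bmap_comp, Scheme.Hom.comp_preimage, hb]
  rw [← res_mp F χ le_rfl hV t, key hfull]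
  exact res_mp F θ hfull hV s

omit hE in
include hE' hY hg hF in
theorem eq_of_lifts {z' z : E} (b : π.obj z' ⟶ π.obj z) {U : (StMod.sch (Src π) z').Opens}
    {s t : Γ(F.obj z', U)}
    (h : ∀ (x : E) (φ : x ⟶ z') (ψ : x ⟶ z), π.map φ ≫ b = π.map ψ → mp F φ le_rfl s = mp F φ le_rfl t) :
    s = t := by
  obtain ⟨κ, x, φ, ψ, hφψ, hcov⟩ := exists_loc_lift hE' hY hg b
  exact eq_of_cover hF φ hcov fun k => h (x k) (φ k) (ψ k) (hφψ k)

omit hE in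
/-- The comparison of sections along a morphism of the target. -/
def dSec {z' z : E} (b : π.obj z' ⟶ π.obj z) {g : StMod.sch (Src π) z' ⟶ StMod.sch (Src π) z}
    (hb : StMod.bmap 𝒴 b = g) (U : (StMod.sch (Src π) z).Opens) (s : Γ(F.obj z, U)) :
    Γ(F.obj z', g ⁻¹ᵁ U) :=
  (exists_sec hE' hY hg hF hF' hI b hb U s).choose

omit hE in
theorem dSec_spec {z' z : E} (b : π.obj z' ⟶ π.obj z) {g : StMod.sch (Src π) z' ⟶ StMod.sch (Src π) z}
    (hb : StMod.bmap 𝒴 b = g) (U : (StMod.sch (Src π) z).Opens) (s : Γ(F.obj z, U))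
    (x : E) (φ : x ⟶ z') (ψ : x ⟶ z) (h₀ : π.map φ ≫ b = π.map ψ) (V : (StMod.sch (Src π) x).Opens)
    (h : V ≤ StMod.bmap (Src π) φ ⁻¹ᵁ g ⁻¹ᵁ U) (h' : V ≤ StMod.bmap (Src π) ψ ⁻¹ᵁ U) :
    mp F φ h (dSec hE' hY hg hF hF' hI b hb U s) = mp F ψ h' s :=
  (exists_sec hE' hY hg hF hF' hI b hb U s).choose_spec x φ ψ h₀ V h h'

omit hE in
theorem le_of_fac {x z' z : E} {φ : x ⟶ z'} {ψ : x ⟶ z} {b : π.obj z' ⟶ π.obj z}
    {g : StMod.sch (Src π) z' ⟶ StMod.sch (Src π) z} (hb : StMod.bmap 𝒴 b = g)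
    (h₀ : π.map φ ≫ b = π.map ψ) (U : (StMod.sch (Src π) z).Opens) :
    StMod.bmap (Src π) φ ⁻¹ᵁ g ⁻¹ᵁ U ≤ StMod.bmap (Src π) ψ ⁻¹ᵁ U := by
  show StMod.bmap 𝒴 (π.map φ) ⁻¹ᵁ g ⁻¹ᵁ U ≤ StMod.bmap 𝒴 (π.map ψ) ⁻¹ᵁ U
  rw [← h₀, StMod.bmap_comp, Scheme.Hom.comp_preimage, hb]

omit hE in
/-- The descended comparison map. -/
def dMap {z' z : E} (b : π.obj z' ⟶ π.obj z) {g : StMod.sch (Src π) z' ⟶ StMod.sch (Src π) z}
    (hb : StMod.bmap 𝒴 b = g) : F.obj z ⟶ (Scheme.Modules.pushforward g).obj (F.obj z') :=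
  mkPushHom g (F.obj z) (F.obj z') (dSec hE' hY hg hF hF' hI b hb)
    (fun U s t => eq_of_lifts hE' hY hg hF b fun x φ ψ h₀ => by
      have e := fun s => dSec_spec hE' hY hg hF hF' hI b hb U s x φ ψ h₀ _ le_rfl (le_of_fac hb h₀ U)
      rw [map_add, e, e, e, map_add])
    (fun U r s => eq_of_lifts hE' hY hg hF b fun x φ ψ h₀ => by
      have e := fun s => dSec_spec hE' hY hg hF hF' hI b hb U s x φ ψ h₀ _ le_rfl (le_of_fac hb h₀ U)
      rw [mp_smul, e, e, mp_smul]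
      refine congrArg (fun y => y • _) ?_
      have hc : StMod.bmap (Src π) φ ≫ g = StMod.bmap (Src π) ψ := by
        show StMod.bmap 𝒴 (π.map φ) ≫ g = StMod.bmap 𝒴 (π.map ψ)
        rw [← h₀, StMod.bmap_comp, hb]
      show _ = (g.app U ≫ (StMod.bmap (Src π) φ).appLE _ _ le_rfl) r
      rw [Scheme.Hom.app_eq_appLE, Scheme.Hom.appLE_comp_appLE]
      simp only [hc])
    (fun U V hV s => eq_of_lifts hE' hY hg hF b fun x φ ψ h₀ => by
      rw [mp_res, dSec_spec hE' hY hg hF hF' hI b hb V _ x φ ψ h₀ _ le_rfl (le_of_fac hb h₀ V), mp_res]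
      exact (dSec_spec hE' hY hg hF hF' hI b hb U s x φ ψ h₀ _ _ _).symm)

omit hE in
/-- A module on the source, descended to the family it spans. -/
def descMod : StMod.Mod (Ind (𝒳 := 𝒴) π.obj) where
  obj z := F.obj z
  map φ _ hb := dMap hE' hY hg hF hF' hI φ.hom hb
  map_id z := by
    ext U s
    show dSec hE' hY hg hF hF' hI (z := z) (z' := z) (𝟙 (π.obj z)) (StMod.bmap_id (π.obj z)) U s = s
    refine eq_of_lifts hE' hY hg hF (z := z) (𝟙 (π.obj z)) fun x φ ψ h₀ => ?_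
    rw [dSec_spec hE' hY hg hF hF' hI _ _ U s x φ ψ h₀ _ le_rfl (le_of_fac (StMod.bmap_id _) h₀ U)]
    exact hI ψ φ (h₀.symm.trans (Category.comp_id _)) _ _ _ _ _
  map_comp {z₂ z₁ z₀} β α {h g} hh hb := by
    ext U s
    show dSec hE' hY hg hF hF' hI (z' := z₂) (z := z₀) (β.hom ≫ α.hom) (g := h ≫ g)
        ((StMod.bmap_comp (𝒳 := 𝒴) β.hom α.hom).trans (congrArg₂ (· ≫ ·) hh hb)) U s =
      dSec hE' hY hg hF hF' hI β.hom hh (g ⁻¹ᵁ U) (dSec hE' hY hg hF hF' hI α.hom hb U s)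
    refine eq_of_lifts hE' hY hg hF β.hom fun x φ ψ h₀ => ?_
    obtain ⟨κ, y, χ, θ, hχθ, hcov⟩ := exists_loc_lift hE' hY hg (π.map ψ ≫ α.hom)
    have hc : StMod.bmap 𝒴 (β.hom ≫ α.hom) = h ≫ g :=
      (StMod.bmap_comp (𝒳 := 𝒴) β.hom α.hom).trans (congrArg₂ (· ≫ ·) hh hb)
    refine Eq.trans ?_
      (dSec_spec hE' hY hg hF hF' hI β.hom hh _ _ x φ ψ h₀ _ le_rfl (le_of_fac hh h₀ (g ⁻¹ᵁ U))).symm
    refine eq_of_cover hF χ hcov fun k => ?_
    have h₁ : π.map (χ k ≫ φ) ≫ (β.hom ≫ α.hom) = π.map (θ k) := by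
      rw [π.map_comp, Category.assoc, reassoc_of% h₀, hχθ]
    have h₂ : π.map (χ k ≫ ψ) ≫ α.hom = π.map (θ k) := by
      rw [π.map_comp, Category.assoc, hχθ]
    have hle : StMod.bmap (Src π) (χ k) ⁻¹ᵁ StMod.bmap (Src π) φ ⁻¹ᵁ (h ≫ g) ⁻¹ᵁ U ≤
        StMod.bmap (Src π) (θ k) ⁻¹ᵁ U := by
      rw [← Scheme.Hom.comp_preimage (StMod.bmap (Src π) (χ k)), ← StMod.bmap_comp]
      exact le_of_fac hc h₁ U
    refine (mp_mp F _ _ _ _ _).trans (Eq.trans ?_ (mp_mp F _ _ _ _ _).symm)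
    exact (dSec_spec hE' hY hg hF hF' hI _ hc U s _ _ (θ k) h₁ _ _ hle).trans
      (dSec_spec hE' hY hg hF hF' hI _ hb U s _ _ (θ k) h₂ _ _ hle).symm

omit hE in
theorem descMod_map_lift {z' z : E} (φ : z' ⟶ z) (U : (StMod.sch (Src π) z).Opens) (s : Γ(F.obj z, U)) :
    dSec hE' hY hg hF hF' hI (π.map φ) (g := StMod.bmap (Src π) φ) rfl U s = mp F φ le_rfl s := by
  refine eq_of_lifts hE' hY hg hF (π.map φ) fun x χ ψ h₀ => ?_
  refine (dSec_spec hE' hY hg hF hF' hI _ _ U s x χ ψ h₀ _ le_rfl (le_of_fac rfl h₀ U)).trans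
    (Eq.trans ?_ (mp_mp F χ φ _ _ s).symm)
  exact hI ψ (χ ≫ φ) (h₀.symm.trans (π.map_comp χ φ).symm) _ _ _ _ _

omit hE in
theorem descMod_isCartesian : (descMod hE' hY hg hF hF' hI).IsCartesian := by
  intro z' z β g hb
  obtain ⟨κ, x, φ, ψ, hφψ, hcov⟩ := exists_loc_lift hE' hY hg β.hom
  have hn : ∀ k, StMod.bmap (Src π) (ψ k) = StMod.bmap (Src π) (φ k) ≫ g := fun k => by
    show StMod.bmap 𝒴 (π.map (ψ k)) = StMod.bmap 𝒴 (π.map (φ k)) ≫ g
    rw [← hφψ k, StMod.bmap_comp]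
    exact congrArg (_ ≫ ·) hb
  refine isIso_adjoint_of_cover ((descMod hE' hY hg hF hF' hI).map β hb) hcov (hF' z) (hF' z')
    (fun k => F.map (φ k) rfl) (fun k => F.map (ψ k) (hn k)) (fun k => hF (φ k) rfl) (fun k => hF (ψ k) (hn k))
    fun k U s => ?_
  have hle : StMod.bmap (Src π) (φ k) ⁻¹ᵁ g ⁻¹ᵁ U ≤ StMod.bmap (Src π) (ψ k) ⁻¹ᵁ U := by
    rw [hn k, Scheme.Hom.comp_preimage]
  refine (mp_self F (φ k) _).symm.trans ?_
  refine (dSec_spec hE' hY hg hF hF' hI β.hom hb U s (x k) (φ k) (ψ k) (hφψ k) _ le_rfl hle).trans ?_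
  exact (mp_eq F (ψ k) (hn k) hle (by rw [Scheme.Hom.comp_preimage]) s).trans (res_self _ _)

omit hE in
/-- The descended module restricts to the module. -/
def comapDescIso : StMod.Mod.comap toInd (descMod hE' hY hg hF hF' hI) ≅ F :=
  StMod.Mod.isoMk (fun z => Iso.refl _) fun z' z φ g hgφ => by
    rw [comap_toInd_map (descMod hE' hY hg hF hF' hI) φ hgφ]
    subst hgφ
    ext U s
    exact (descMod_map_lift hE' hY hg hF hF' hI φ U s).trans (mp_self F φ s)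

end Descend

section ToInd

variable (hE' : FibCat.IsFibGrpd (π ⋙ 𝒴.p)) (hY : FibCat.IsFibGrpd 𝒴.p) (hg : IsGerbeQ π)

omit hE in
instance faithful_comapQ_toInd : (StMod.comapQ (toInd (π := π))).Faithful where
  map_injective {G G'} v v' h :=
    ObjectProperty.hom_ext _ (StMod.Mod.hom_ext fun z => congr((InducedCategory.Hom.hom $h).app z))

omit hE in
theorem imp_natural_toInd {G G' : StMod.Mod (Ind (𝒳 := 𝒴) π.obj)}
    (u : StMod.Mod.comap toInd G ⟶ StMod.Mod.comap toInd G') {x z : E} (φ : x ⟶ z)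
    {U : (StMod.sch 𝒴 (π.obj z)).Opens} {V : (StMod.sch 𝒴 (π.obj x)).Opens}
    (h : V ≤ StMod.bmap 𝒴 (π.map φ) ⁻¹ᵁ U) (s : Γ(gObj (𝒳 := 𝒴) G z, U)) :
    imp (𝒳 := 𝒴) G' (π.map φ) h ((show gObj (𝒳 := 𝒴) G z ⟶ gObj (𝒳 := 𝒴) G' z from u.app z).app U s) =
      (show gObj (𝒳 := 𝒴) G x ⟶ gObj (𝒳 := 𝒴) G' x from u.app x).app V (imp (𝒳 := 𝒴) G (π.map φ) h s) := by
  have e := mp_natural (StMod.Mod.comap toInd G) u φ h s
  simp only [mp_apply, comap_toInd_map] at e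
  exact e

omit hE in
include hE' hY hg in
theorem full_comapQ_toInd : (StMod.comapQ (toInd (π := π))).Full where
  map_surjective {G G'} u := by
    refine ⟨⟨⟨fun z => u.hom.app z, fun {z' z} β g hb => ?_⟩⟩, rfl⟩
    subst hb
    ext U s
    let a : gObj (𝒳 := 𝒴) G.obj z ⟶ gObj (𝒳 := 𝒴) G'.obj z := u.hom.app z
    let a' : gObj (𝒳 := 𝒴) G.obj z' ⟶ gObj (𝒳 := 𝒴) G'.obj z' := u.hom.app z'
    show a'.app _ (show Γ(gObj (𝒳 := 𝒴) G.obj z', StMod.bmap 𝒴 β.hom ⁻¹ᵁ U) from (G.obj.map β rfl).app U s) =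
      (show Γ(gObj (𝒳 := 𝒴) G'.obj z', StMod.bmap 𝒴 β.hom ⁻¹ᵁ U) from (G'.obj.map β rfl).app U (a.app U s))
    refine Eq.trans (congrArg (a'.app _) (imp_self (𝒳 := 𝒴) G.obj β.hom s).symm)
      (Eq.trans ?_ (imp_self (𝒳 := 𝒴) G'.obj β.hom (a.app U s)))
    obtain ⟨κ, x, φ, ψ, hφψ, hcov⟩ := exists_loc_lift hE' hY hg β.hom
    refine eq_of_cover (𝒳 := Ind (𝒳 := 𝒴) π.obj) G'.property.1 (fun k => hm (𝒳 := 𝒴) π.obj (π.map (φ k))) hcov
      fun k => ?_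
    show imp (𝒳 := 𝒴) G'.obj (π.map (φ k)) le_rfl _ = imp (𝒳 := 𝒴) G'.obj (π.map (φ k)) le_rfl _
    have hle : StMod.bmap 𝒴 (π.map (φ k)) ⁻¹ᵁ StMod.bmap 𝒴 β.hom ⁻¹ᵁ U ≤ StMod.bmap 𝒴 (π.map (ψ k)) ⁻¹ᵁ U := by
      rw [← hφψ k, StMod.bmap_comp, Scheme.Hom.comp_preimage]
    refine (imp_natural_toInd u.hom (φ k) le_rfl (imp (𝒳 := 𝒴) G.obj β.hom le_rfl s)).trans ?_
    refine (congrArg _ ((imp_imp (𝒳 := 𝒴) G.obj _ _ _ _ _).trans
      (imp_congr (𝒳 := 𝒴) G.obj (hφψ k) _ hle _))).trans ?_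
    refine Eq.trans ?_ ((imp_imp (𝒳 := 𝒴) G'.obj _ _ _ _ _).trans
      (imp_congr (𝒳 := 𝒴) G'.obj (hφψ k) _ hle _)).symm
    exact (imp_natural_toInd u.hom (ψ k) hle s).symm

omit hE in
/-- Inverse image along the gerbe factors through the family. -/
def comapQFacIso : StMod.comapQ (ind (𝒳 := 𝒴) π.obj) ⋙ StMod.comapQ (toInd (π := π)) ≅ StMod.comapQ (toBase π) :=
  NatIso.ofComponents (fun G => (StMod.isQCoh (Src π)).isoMk (StMod.Mod.isoMk (fun z => Iso.refl _)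
    fun z' z φ g hgφ => by
      show (StMod.Mod.comap toInd (StMod.Mod.comap (ind (𝒳 := 𝒴) π.obj) G.obj)).map φ hgφ ≫
        (Scheme.Modules.pushforward g).map (𝟙 _) = 𝟙 _ ≫ (StMod.Mod.comap (toBase π) G.obj).map φ hgφ
      rw [CategoryTheory.Functor.map_id, Category.comp_id, Category.id_comp, comap_toInd_map]
      exact (comap_ind_map (𝒳 := 𝒴) G.obj (hm (𝒳 := 𝒴) π.obj (π.map φ)) hgφ).trans (comap_toBase_map G.obj φ hgφ).symm))
    fun {G G'} v => ObjectProperty.hom_ext _ (StMod.Mod.hom_ext fun z => (Category.comp_id _).trans (Category.id_comp _).symm)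

omit hE in
include hE' hY hg in
theorem full_faithful_comapQ_toBase :
    (StMod.comapQ (toBase π)).Full ∧ (StMod.comapQ (toBase π)).Faithful := by
  have := isEquivalence_comapQ_ind (lifts_of_isFibGrpd hY) (isDense_src (lifts_of_isFibGrpd hE') hg)
  have := full_comapQ_toInd hE' hY hg
  exact ⟨Functor.Full.of_iso comapQFacIso, Functor.Faithful.of_iso comapQFacIso⟩

omit hE in
include hE' hY hg in
theorem exists_iso_comapQ_toBase (F : StMod.QCoh (Src π)) (hI : Indep F.obj) :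
    ∃ G : StMod.QCoh 𝒴, Nonempty (F ≅ (StMod.comapQ (toBase π)).obj G) := by
  have := isEquivalence_comapQ_ind (lifts_of_isFibGrpd hY) (isDense_src (lifts_of_isFibGrpd hE') hg)
  let G₀ : StMod.QCoh (Ind (𝒳 := 𝒴) π.obj) :=
    ⟨descMod hE' hY hg F.property.1 F.property.2 hI, descMod_isCartesian hE' hY hg F.property.1 F.property.2 hI,
      fun z => F.property.2 z⟩
  refine ⟨(StMod.comapQ (ind (𝒳 := 𝒴) π.obj)).objPreimage G₀, ⟨?_⟩⟩
  exact ((StMod.isQCoh (Src π)).isoMk (X := (StMod.comapQ (toInd (π := π))).obj G₀)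
      (comapDescIso hE' hY hg F.property.1 F.property.2 hI)).symm ≪≫
    (StMod.comapQ (toInd (π := π))).mapIso ((StMod.comapQ (ind (𝒳 := 𝒴) π.obj)).objObjPreimageIso G₀).symm ≪≫
    comapQFacIso.app _

end ToInd

end Groth.StDescent
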