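import Groth.Agent.StMod.Sect.Descent
import Groth.Agent.DescentBase.Extend
import Mathlib.AlgebraicGeometry.Sites.Fpqc

/-!
# Restriction of sections of modules on a fibred category, and descent along families (helper34)

`mp F φ h` restricts a section over an open along a morphism `φ` to any smaller open.
-/

set_option autoImplicit false
set_option backward.isDefEq.respectTransparency false
set_option backward.isDefEq.respectTransparency.types false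

universe w v u

open CategoryTheory CategoryTheory.Limits AlgebraicGeometry Opposite TopologicalSpace

noncomputable section

namespace Groth.StDescent

open Groth.DescentBase
open Groth.QCohMod (res res_res res_self res_app res_smul resFun)
open Groth.PicAux (pullSec)
open Groth.StkBase Groth.StModSect

variable {S : Scheme.{u}} {𝒳 : BasedCategory.{v, w} (Over S)} (F : StMod.Mod 𝒳)
variable {ξ'' ξ' ξ : 𝒳.obj}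

/-- Restriction of a section along a morphism, to an open over it. -/
def mp (φ : ξ' ⟶ ξ) {U : (StMod.sch 𝒳 ξ).Opens} {V : (StMod.sch 𝒳 ξ').Opens}
    (h : V ≤ StMod.bmap 𝒳 φ ⁻¹ᵁ U) : Γ(F.obj ξ, U) →+ Γ(F.obj ξ', V) :=
  (res (F.obj ξ') h).comp ((F.map φ rfl).app U).hom

theorem mp_apply (φ : ξ' ⟶ ξ) {U : (StMod.sch 𝒳 ξ).Opens} {V : (StMod.sch 𝒳 ξ').Opens}
    (h : V ≤ StMod.bmap 𝒳 φ ⁻¹ᵁ U) (s : Γ(F.obj ξ, U)) :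
    mp F φ h s = res (F.obj ξ') h ((F.map φ rfl).app U s) := rfl

theorem mp_self (φ : ξ' ⟶ ξ) {U : (StMod.sch 𝒳 ξ).Opens} (s : Γ(F.obj ξ, U)) :
    mp F φ le_rfl s = (F.map φ rfl).app U s := res_self _ _

theorem mp_congr {φ φ' : ξ' ⟶ ξ} (e : φ = φ') {U : (StMod.sch 𝒳 ξ).Opens} {V : (StMod.sch 𝒳 ξ').Opens}
    (h : V ≤ StMod.bmap 𝒳 φ ⁻¹ᵁ U) (h' : V ≤ StMod.bmap 𝒳 φ' ⁻¹ᵁ U) (s : Γ(F.obj ξ, U)) :
    mp F φ h s = mp F φ' h' s := by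
  subst e; rfl

/-- The comparison with the underlying morphism named otherwise. -/
theorem mp_eq (φ : ξ' ⟶ ξ) {g : StMod.sch 𝒳 ξ' ⟶ StMod.sch 𝒳 ξ} (hg : StMod.bmap 𝒳 φ = g)
    {U : (StMod.sch 𝒳 ξ).Opens} {V : (StMod.sch 𝒳 ξ').Opens} (h : V ≤ StMod.bmap 𝒳 φ ⁻¹ᵁ U)
    (h' : V ≤ g ⁻¹ᵁ U) (s : Γ(F.obj ξ, U)) :
    mp F φ h s = res (F.obj ξ') h' ((F.map φ hg).app U s) := by
  subst hg; rfl

theorem res_mp (φ : ξ' ⟶ ξ) {U : (StMod.sch 𝒳 ξ).Opens} {V V' : (StMod.sch 𝒳 ξ').Opens}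
    (h : V ≤ StMod.bmap 𝒳 φ ⁻¹ᵁ U) (hV : V' ≤ V) (s : Γ(F.obj ξ, U)) :
    res (F.obj ξ') hV (mp F φ h s) = mp F φ (hV.trans h) s :=
  res_res _ _ _ _

theorem mp_res (φ : ξ' ⟶ ξ) {U U' : (StMod.sch 𝒳 ξ).Opens} {V : (StMod.sch 𝒳 ξ').Opens}
    (hU : U' ≤ U) (h : V ≤ StMod.bmap 𝒳 φ ⁻¹ᵁ U') (s : Γ(F.obj ξ, U)) :
    mp F φ h (res (F.obj ξ) hU s) = mp F φ (h.trans ((StMod.bmap 𝒳 φ).preimage_mono hU)) s := by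
  rw [mp_apply, ← res_app (F.map φ rfl) hU s]
  exact res_res _ _ _ _

theorem le_preimage_comp (ψ : ξ'' ⟶ ξ') (φ : ξ' ⟶ ξ) {U : (StMod.sch 𝒳 ξ).Opens}
    {V : (StMod.sch 𝒳 ξ').Opens} {W : (StMod.sch 𝒳 ξ'').Opens}
    (h : V ≤ StMod.bmap 𝒳 φ ⁻¹ᵁ U) (h' : W ≤ StMod.bmap 𝒳 ψ ⁻¹ᵁ V) :
    W ≤ StMod.bmap 𝒳 (ψ ≫ φ) ⁻¹ᵁ U := by
  rw [StMod.bmap_comp, Scheme.Hom.comp_preimage]
  exact h'.trans ((StMod.bmap 𝒳 ψ).preimage_mono h)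

theorem mp_mp (ψ : ξ'' ⟶ ξ') (φ : ξ' ⟶ ξ) {U : (StMod.sch 𝒳 ξ).Opens}
    {V : (StMod.sch 𝒳 ξ').Opens} {W : (StMod.sch 𝒳 ξ'').Opens}
    (h : V ≤ StMod.bmap 𝒳 φ ⁻¹ᵁ U) (h' : W ≤ StMod.bmap 𝒳 ψ ⁻¹ᵁ V) (s : Γ(F.obj ξ, U)) :
    mp F ψ h' (mp F φ h s) = mp F (ψ ≫ φ) (le_preimage_comp ψ φ h h') s := by
  rw [mp_eq F (ψ ≫ φ) (StMod.bmap_comp ψ φ) _
    (h'.trans ((StMod.bmap 𝒳 ψ).preimage_mono h)) s, mp_apply F φ h, mp_res]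
  refine congrArg (res (F.obj ξ'') _) ?_
  exact (congr(($(F.map_comp_app ψ φ rfl rfl U)) s)).symm

theorem mp_smul (φ : ξ' ⟶ ξ) {U : (StMod.sch 𝒳 ξ).Opens} {V : (StMod.sch 𝒳 ξ').Opens}
    (h : V ≤ StMod.bmap 𝒳 φ ⁻¹ᵁ U) (r : Γ(StMod.sch 𝒳 ξ, U)) (s : Γ(F.obj ξ, U)) :
    mp F φ h (r • s) = (StMod.bmap 𝒳 φ).appLE U V h r • mp F φ h s := by
  rw [mp_apply, mp_apply, Scheme.Modules.Hom.app_smul]
  exact res_smul (F.obj ξ') h ((StMod.bmap 𝒳 φ).app U r) _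

theorem mp_id (ξ₀ : 𝒳.obj) {U V : (StMod.sch 𝒳 ξ₀).Opens} (h : V ≤ StMod.bmap 𝒳 (𝟙 ξ₀) ⁻¹ᵁ U)
    (h' : V ≤ U) (s : Γ(F.obj ξ₀, U)) : mp F (𝟙 ξ₀) h s = res (F.obj ξ₀) h' s := by
  rw [mp_eq F (𝟙 ξ₀) (StMod.bmap_id ξ₀) h h' s]
  exact congrArg (res (F.obj ξ₀) h') congr(($(F.map_id ξ₀)).app U s)

theorem mp_natural {F' : StMod.Mod 𝒳} (u : F ⟶ F') (φ : ξ' ⟶ ξ) {U : (StMod.sch 𝒳 ξ).Opens}
    {V : (StMod.sch 𝒳 ξ').Opens} (h : V ≤ StMod.bmap 𝒳 φ ⁻¹ᵁ U) (s : Γ(F.obj ξ, U)) :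
    mp F' φ h ((u.app ξ).app U s) = (u.app ξ').app V (mp F φ h s) := by
  rw [mp_apply, mp_apply, ← res_app]
  exact congrArg (res (F'.obj ξ') h) congr(($(u.comm φ (g := StMod.bmap 𝒳 φ) rfl)).app U s).symm

variable {F}

/-- Sections over an open inject along a flat family covering it. -/
theorem mp_injective {κ : Type u} {ζ : κ → 𝒳.obj} (a : ∀ k, ζ k ⟶ ξ)
    [∀ k, Flat (StMod.bmap 𝒳 (a k))] (hF : F.IsCartesian) {U : (StMod.sch 𝒳 ξ).Opens}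
    (hsurj : ∀ x ∈ U, ∃ k y, StMod.bmap 𝒳 (a k) y = x) {s t : Γ(F.obj ξ, U)}
    (h : ∀ k, mp F (a k) le_rfl s = mp F (a k) le_rfl t) : s = t := by
  rw [← sub_eq_zero]
  refine eq_zero_of_pullSec (fun k => StMod.bmap 𝒳 (a k)) hsurj (s - t) fun k => ?_
  have e := h k
  rw [mp_self, mp_self, ← cmp_pullSec, ← cmp_pullSec] at e
  exact (map_sub _ s t).trans (sub_eq_zero.2 ((cmp_app_bijective F hF (a k) rfl _).1 e))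

/-- The properties of a category fibred in groupoids used for descent, read on the underlying schemes. -/
structure Lifts (𝒳 : BasedCategory.{v, w} (Over S)) : Prop where
  lift : ∀ (ξ₀ : 𝒳.obj) {T : Scheme.{u}} (g : T ⟶ StMod.sch 𝒳 ξ₀),
    ∃ (ζ : 𝒳.obj) (ψ : ζ ⟶ ξ₀) (e : StMod.sch 𝒳 ζ ≅ T), StMod.bmap 𝒳 ψ = e.hom ≫ g
  factor : ∀ {x ζ y : 𝒳.obj} (φ : y ⟶ x) (χ : ζ ⟶ x) (g : StMod.sch 𝒳 ζ ⟶ StMod.sch 𝒳 y),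
    g ≫ StMod.bmap 𝒳 φ = StMod.bmap 𝒳 χ → ∃ ψ : ζ ⟶ y, ψ ≫ φ = χ ∧ StMod.bmap 𝒳 ψ = g
  ext : ∀ {x ζ y : 𝒳.obj} (φ : y ⟶ x) {ψ ψ' : ζ ⟶ y}, ψ ≫ φ = ψ' ≫ φ →
    StMod.bmap 𝒳 ψ = StMod.bmap 𝒳 ψ' → ψ = ψ'

theorem lifts_of_isFibGrpd (hp : FibCat.IsFibGrpd 𝒳.p) : Lifts 𝒳 where
  lift ξ₀ T g := by
    obtain ⟨ζ, ψ, hb, hm⟩ := exists_lift' hp (x := ξ₀)
      (V := Over.mk (g ≫ (𝒳.p.obj ξ₀).hom)) (Over.homMk g rfl)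
    refine ⟨ζ, ψ, eqToIso (congrArg Comma.left hb), ?_⟩
    show (𝒳.p.map ψ).left = _
    rw [hm, Over.comp_left, Over.eqToHom_left]
    rfl
  factor {x ζ y} φ χ g e := by
    have hw : g ≫ (𝒳.p.obj y).hom = (𝒳.p.obj ζ).hom := by
      rw [← Over.w (𝒳.p.map φ), ← Over.w (𝒳.p.map χ), ← Category.assoc]
      exact congrArg (· ≫ _) e
    obtain ⟨ψ, ⟨hm, hψ⟩, -⟩ := factor_unique hp φ χ (Over.homMk g hw) (by ext1; exact e)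
    refine ⟨ψ, hψ, ?_⟩
    show (𝒳.p.map ψ).left = g
    rw [hm]
    rfl
  ext {x ζ y} φ {ψ ψ'} e eb := by
    obtain ⟨χ, -, hu⟩ := factor_unique hp φ (ψ ≫ φ) (𝒳.p.map ψ) (𝒳.p.map_comp ψ φ).symm
    exact (hu ψ ⟨rfl, rfl⟩).trans (hu ψ' ⟨Over.OverMorphism.ext eb.symm, e.symm⟩).symm

/-- Sections inject along the objects over the open. -/
theorem mp_injective_of_lifts (hp : Lifts 𝒳) (hF : F.IsCartesian) {U : (StMod.sch 𝒳 ξ).Opens}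
    {s t : Γ(F.obj ξ, U)}
    (h : ∀ (ζ : 𝒳.obj) (ψ : ζ ⟶ ξ) (hU : ⊤ ≤ StMod.bmap 𝒳 ψ ⁻¹ᵁ U), mp F ψ hU s = mp F ψ hU t) : s = t := by
  obtain ⟨ζ, ψ, e, hb⟩ := hp.lift ξ U.ι
  have : Flat (StMod.bmap 𝒳 ψ) := by rw [hb]; infer_instance
  have hU : StMod.bmap 𝒳 ψ ⁻¹ᵁ U = ⊤ := by
    rw [hb, Scheme.Hom.comp_preimage, Scheme.Opens.ι_preimage_self]; rfl
  refine mp_injective (κ := PUnit.{u + 1}) (fun _ => ψ) hF (fun x hx => ?_) fun _ => ?_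
  · refine ⟨⟨⟩, e.inv ⟨x, hx⟩, ?_⟩
    rw [hb, ← Scheme.Hom.comp_apply, e.inv_hom_id_assoc]
    rfl
  · refine Groth.PicAux.res_ext (fun _ : Unit => (⊤ : (StMod.sch 𝒳 ζ).Opens)) (fun _ => hU.ge)
      (fun y _ => Opens.mem_iSup.2 ⟨(), trivial⟩) fun _ => ?_
    exact (res_mp F ψ le_rfl hU.ge s).trans ((h ζ ψ hU.ge).trans (res_mp F ψ le_rfl hU.ge t).symm)

theorem bc_injective {T T' X : Scheme.{u}} {N : X.Modules} (e : T' ≅ T) (g : T ⟶ X) {x y : El N g}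
    (h : bc e.hom g (e.hom ≫ g) rfl x = bc e.hom g (e.hom ≫ g) rfl y) : x = y := by
  have k := congrArg (bc e.inv (e.hom ≫ g) g (e.inv_hom_id_assoc g)) h
  rwa [bc_bc e.inv e.hom (𝟙 T) e.inv_hom_id g (e.hom ≫ g) rfl g (e.inv_hom_id_assoc g) (Category.id_comp g),
    bc_bc e.inv e.hom (𝟙 T) e.inv_hom_id g (e.hom ≫ g) rfl g (e.inv_hom_id_assoc g) (Category.id_comp g),
    bc_id_apply, bc_id_apply] at k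

/-- Sections descend along a covering family when compatible on all test objects. -/
theorem exists_mp_eq (hp : Lifts 𝒳) (hF : F.IsCartesian) (hF' : F.IsLocQCoh)
    {κ : Type u} {ζ : κ → 𝒳.obj} (a : ∀ k, ζ k ⟶ ξ)
    (hcov : Presieve.ofArrows (fun k => StMod.sch 𝒳 (ζ k)) (fun k => StMod.bmap 𝒳 (a k)) ∈
      Scheme.fpqcPrecoverage (StMod.sch 𝒳 ξ))
    {U : (StMod.sch 𝒳 ξ).Opens} (x : ∀ k, Γ(F.obj (ζ k), StMod.bmap 𝒳 (a k) ⁻¹ᵁ U))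
    (hx : ∀ k l (w : 𝒳.obj) (ψ₁ : w ⟶ ζ k) (ψ₂ : w ⟶ ζ l), ψ₁ ≫ a k = ψ₂ ≫ a l →
      ∀ (V : (StMod.sch 𝒳 w).Opens) (h₁ : V ≤ StMod.bmap 𝒳 ψ₁ ⁻¹ᵁ StMod.bmap 𝒳 (a k) ⁻¹ᵁ U)
        (h₂ : V ≤ StMod.bmap 𝒳 ψ₂ ⁻¹ᵁ StMod.bmap 𝒳 (a l) ⁻¹ᵁ U),
        mp F ψ₁ h₁ (x k) = mp F ψ₂ h₂ (x l)) :
    ∃ t : Γ(F.obj ξ, U), ∀ k, mp F (a k) le_rfl t = x k := by
  let f := fun k => StMod.bmap 𝒳 (a k)
  choose s hs using fun k => (cmp_app_bijective F hF (a k) (rfl : StMod.bmap 𝒳 (a k) = f k) _).2 (x k)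
  have : (F.obj ξ).IsQuasicoherent := hF' ξ
  suffices hc : IsCompat ((Desc.modPF.{u}.toDescentData f).obj (F.obj ξ)) U s by
    obtain ⟨n, hn⟩ := exists_pullSec_eq hcov (F.obj ξ) hc
    refine ⟨n, fun k => ?_⟩
    rw [mp_self, ← cmp_pullSec, ← hs k]
    exact congrArg _ (hn k)
  intro i j T g₁ g₂ h h₁ h₂
  obtain ⟨w, ψ₁, e, e₁⟩ := hp.lift (ζ i) g₁
  obtain ⟨ψ₂, hψ, e₂⟩ := hp.factor (a j) (ψ₁ ≫ a i) (e.hom ≫ g₂) (by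
    rw [StMod.bmap_comp, e₁, Category.assoc, Category.assoc]
    exact congrArg (e.hom ≫ ·) h.symm)
  -- compare after the isomorphism `e`
  refine (flat_bijective (N := F.obj ξ) (f j) g₂ (g₁ ≫ f i) h.symm).1 ?_
  refine (flat_dEl_ofObj (f := f) (F.obj ξ) g₁ g₂ h (g₁ ≫ f i) rfl _).trans ?_
  refine (bc_injective e (g₁ ≫ f i) ?_)
  have hχ : StMod.bmap 𝒳 (ψ₁ ≫ a i) = e.hom ≫ g₁ ≫ f i := by
    rw [StMod.bmap_comp, e₁, Category.assoc]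
  refine (cmp_app_bijective F hF (ψ₁ ≫ a i) hχ ⊤).1 ?_
  have key : ∀ (l : κ) (g : T ⟶ StMod.sch 𝒳 (ζ l)) (ψ : w ⟶ ζ l) (he : StMod.bmap 𝒳 ψ = e.hom ≫ g)
      (hψl : ψ ≫ a l = ψ₁ ≫ a i) (hg : g ≫ f l = g₁ ≫ f i) (hl : ⊤ ≤ g ⁻¹ᵁ f l ⁻¹ᵁ U)
      (hl' : ⊤ ≤ StMod.bmap 𝒳 ψ ⁻¹ᵁ f l ⁻¹ᵁ U),
      (cmp F (ψ₁ ≫ a i) hχ).app ⊤ (bc e.hom (g₁ ≫ f i) (e.hom ≫ g₁ ≫ f i) rfl
        (flat (f l) g (g₁ ≫ f i) hg (el g hl (s l)))) = mp F ψ hl' (x l) := by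
    intro l g ψ he hψl hg hl hl'
    have hl'' : ⊤ ≤ (e.hom ≫ g) ⁻¹ᵁ f l ⁻¹ᵁ U := by rw [← he]; exact hl'
    have eb : bc e.hom (g₁ ≫ f i) (e.hom ≫ g₁ ≫ f i) rfl (flat (f l) g (g₁ ≫ f i) hg (el g hl (s l))) =
        flat (f l) (e.hom ≫ g) (e.hom ≫ g₁ ≫ f i) (by rw [Category.assoc, hg]) (el (e.hom ≫ g) hl'' (s l)) := by
      rw [← flat_bc (f l) e.hom g (e.hom ≫ g) rfl (g₁ ≫ f i) hg (e.hom ≫ g₁ ≫ f i) (by rw [Category.assoc, hg]) (el g hl (s l))]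
      exact congrArg _ (bc_el e.hom g (e.hom ≫ g) rfl hl (s l))
    rw [eb]
    have hχ' : StMod.bmap 𝒳 (ψ ≫ a l) = e.hom ≫ g₁ ≫ f i := by rw [hψl, hχ]
    have hch : ∀ (χ : w ⟶ ξ) (hc : StMod.bmap 𝒳 χ = e.hom ≫ g₁ ≫ f i), χ = ψ₁ ≫ a i → ∀ z,
          (cmp F χ hc).app ⊤ z = (cmp F (ψ₁ ≫ a i) hχ).app ⊤ z := by
      rintro χ hc rfl z; rfl
    refine (hch (ψ ≫ a l) hχ' hψl _).symm.trans ?_
    refine (cmp_flat F ψ (a l) he (rfl : _ = f l) (by rw [Category.assoc, hg]) hχ'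
      (el (e.hom ≫ g) hl'' (s l))).trans ?_
    · rw [elMap_el, hs l, el, ← res_app]
      refine (congrArg (res _ _) (cmp_pullSec F ψ he (x l))).trans ?_
      exact (mp_eq F ψ he hl' hl'' (x l)).symm
  have hl₁ : ⊤ ≤ StMod.bmap 𝒳 ψ₁ ⁻¹ᵁ f i ⁻¹ᵁ U := by
    rw [e₁, Scheme.Hom.comp_preimage]; exact (e.hom).preimage_mono h₁
  have hl₂ : ⊤ ≤ StMod.bmap 𝒳 ψ₂ ⁻¹ᵁ f j ⁻¹ᵁ U := by
    rw [e₂, Scheme.Hom.comp_preimage]; exact (e.hom).preimage_mono h₂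
  rw [key i g₁ ψ₁ e₁ rfl rfl h₁ hl₁, key j g₂ ψ₂ e₂ hψ h.symm h₂ hl₂]
  exact hx i j w ψ₁ ψ₂ hψ.symm ⊤ hl₁ hl₂
end Groth.StDescent
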